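import Cfsg.Agent.Lib.FourTrans.FourGroup

/-!
Four-fold transitive groups whose four-point stabilisers have odd order:
involutions, their conjugacy and fixed points (M. Hall).
-/

namespace Cfsg.Agent.FourTrans

variable {G : Type*} [Group G] {Ω : Type*} [MulAction G Ω]

/-- Four pairwise distinct points. -/
structure D4 (i j k l : Ω) : Prop where
  ij : i ≠ j
  ik : i ≠ k
  il : i ≠ l
  jk : j ≠ k
  jl : j ≠ l
  kl : k ≠ l

variable (G) in
/-- Pointwise stabiliser of four points. -/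
def fix4 (i j k l : Ω) : Subgroup G :=
  MulAction.stabilizer G i ⊓ MulAction.stabilizer G j ⊓ MulAction.stabilizer G k ⊓
    MulAction.stabilizer G l

theorem mem_fix4 {i j k l : Ω} {g : G} :
    g ∈ fix4 G i j k l ↔ g • i = i ∧ g • j = j ∧ g • k = k ∧ g • l = l := by
  simp [fix4, MulAction.mem_stabilizer_iff, and_assoc]

variable (G Ω) in
/-- The hypothesis of Hall's theorem. -/
structure Hyp : Prop where
  trans : ∀ ⦃i j k l : Ω⦄, D4 i j k l → ∀ ⦃i' j' k' l' : Ω⦄, D4 i' j' k' l' →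
    ∃ g : G, g • i = i' ∧ g • j = j' ∧ g • k = k' ∧ g • l = l'
  odd : ∀ ⦃i j k l : Ω⦄, D4 i j k l → Odd (Nat.card (fix4 G i j k l))

/-- An involution fixing `i`, `j` and exchanging `k`, `l`. -/
structure Single (a : G) (i j k l : Ω) : Prop where
  sq : a * a = 1
  fi : a • i = i
  fj : a • j = j
  sk : a • k = l

/-- An involution exchanging `i, j` and `k, l`. -/
structure Double (a : G) (i j k l : Ω) : Prop where
  sq : a * a = 1
  si : a • i = j
  sk : a • k = l

theorem invol_inv {a : G} (ha : a * a = 1) : a⁻¹ = a := inv_eq_of_mul_eq_one_right ha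

theorem smul_swap {a : G} (ha : a * a = 1) {x y : Ω} (h : a • x = y) : a • y = x := by
  rw [← h, smul_smul, ha, one_smul]

theorem Single.sl {a : G} {i j k l : Ω} (h : Single a i j k l) : a • l = k := smul_swap h.sq h.sk

theorem Double.sj {a : G} {i j k l : Ω} (h : Double a i j k l) : a • j = i := smul_swap h.sq h.si

theorem Double.sl {a : G} {i j k l : Ω} (h : Double a i j k l) : a • l = k := smul_swap h.sq h.sk

theorem pow_odd_act {g : G} {x : Ω} (h : (g * g) • x = x) {m : ℕ} (hm : Odd m) :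
    g ^ m • x = g • x := by
  obtain ⟨r, rfl⟩ := hm
  have h1 : ∀ s : ℕ, (g * g) ^ s • x = x := by
    intro s
    induction s with
    | zero => simp
    | succ s ih => rw [pow_succ, mul_smul, h, ih]
  calc g ^ (2 * r + 1) • x = g • ((g * g) ^ r • x) := by
        rw [smul_smul, pow_succ' g (2 * r), pow_mul, pow_two]
    _ = g • x := by rw [h1]

theorem odd_orderOf {K : Subgroup G} (hK : Odd (Nat.card K)) {x : G} (hx : x ∈ K) :
    Odd (orderOf x) := hK.of_dvd_nat (K.orderOf_dvd_natCard hx)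

theorem eq_one_of_invol_odd {K : Subgroup G} (hK : Odd (Nat.card K)) {x : G} (hx : x ∈ K)
    (h2 : x * x = 1) : x = 1 := by
  have hd : orderOf x ∣ 2 := orderOf_dvd_of_pow_eq_one (by rw [pow_two, h2])
  rcases (Nat.dvd_prime Nat.prime_two).1 hd with h | h
  · exact orderOf_eq_one_iff.1 h
  · have := odd_orderOf hK hx
    rw [h] at this
    exact absurd this (by decide)

theorem odd_fix_pair {t : G} (ht : Odd (orderOf t)) {x y : Ω}
    (hx : t • x = x ∨ t • x = y) (hy : t • y = x ∨ t • y = y) : t • x = x := by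
  rcases hx with h | h
  · exact h
  rcases hy with h' | h'
  · have h2 : (t * t) • x = x := by rw [mul_smul, h, h']
    have h3 := pow_odd_act h2 ht
    rw [pow_orderOf_eq_one, one_smul] at h3
    exact h3.symm
  · have : t • x = t • y := h.trans h'.symm
    rw [MulAction.injective t this] at h ⊢
    exact h'

theorem fix4_perm_swap (i j k l : Ω) : fix4 G k l i j = fix4 G i j k l := by
  ext g; simp [mem_fix4]; tauto

theorem fix4_perm_mid (i j k l : Ω) : fix4 G i k j l = fix4 G i j k l := by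
  ext g; simp [mem_fix4]; tauto

theorem conj_mem_fix4 {g : G} {i j k l i' j' k' l' : Ω} (hi : g • i = i') (hj : g • j = j')
    (hk : g • k = k') (hl : g • l = l') (x : G) :
    g * x * g⁻¹ ∈ fix4 G i' j' k' l' ↔ x ∈ fix4 G i j k l := by
  subst hi hj hk hl
  simp [mem_fix4, mul_smul]

theorem conj_normalise {g : G} (hg : g * g = 1) {i j k l : Ω} {i' j' k' l' : Ω}
    (hi : g • i = i') (hj : g • j = j') (hk : g • k = k') (hl : g • l = l')
    (he : fix4 G i' j' k' l' = fix4 G i j k l) :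
    ∀ x ∈ fix4 G i j k l, g * x * g ∈ fix4 G i j k l := by
  intro x hx
  have h := (conj_mem_fix4 hi hj hk hl x).2 hx
  rwa [invol_inv hg, he] at h

theorem conj_comm_iff (g a x : G) :
    (g * a * g⁻¹) * (g * x * g⁻¹) = (g * x * g⁻¹) * (g * a * g⁻¹) ↔ a * x = x * a := by
  have h1 : ∀ u v : G, (g * u * g⁻¹) * (g * v * g⁻¹) = g * (u * v) * g⁻¹ := fun u v => by group
  rw [h1, h1, mul_left_inj, mul_right_inj]

theorem card_eq_of_conj {K K' : Subgroup G} (g : G) (h : ∀ x, g * x * g⁻¹ ∈ K' ↔ x ∈ K) :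
    Nat.card K' = Nat.card K := by
  have : K' = K.map (MulAut.conj g).toMonoidHom := by
    ext y
    rw [Subgroup.mem_map]
    constructor
    · intro hy
      refine ⟨g⁻¹ * y * g, (h _).1 ?_, by simp [mul_assoc]⟩
      simpa [mul_assoc] using hy
    · rintro ⟨x, hx, rfl⟩
      simpa using (h x).2 hx
  rw [this]
  exact Subgroup.card_map_of_injective (MulAut.conj g).injective

theorem conj_mem_cent {K K' : Subgroup G} (g : G) (h : ∀ x, g * x * g⁻¹ ∈ K' ↔ x ∈ K) (a x : G) :
    g * x * g⁻¹ ∈ cent K' (g * a * g⁻¹) ↔ x ∈ cent K a := by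
  rw [mem_cent, mem_cent, h, conj_comm_iff]

variable [Finite G]

theorem Hyp.card_fix4 (H : Hyp G Ω) {i j k l i' j' k' l' : Ω} (d : D4 i j k l)
    (d' : D4 i' j' k' l') : Nat.card (fix4 G i' j' k' l') = Nat.card (fix4 G i j k l) := by
  obtain ⟨g, h1, h2, h3, h4⟩ := H.trans d d'
  exact card_eq_of_conj g (conj_mem_fix4 h1 h2 h3 h4)

theorem Hyp.exists_single (H : Hyp G Ω) {i j k l : Ω} (d : D4 i j k l) :
    ∃ a : G, Single a i j k l := by
  obtain ⟨g, h1, h2, h3, h4⟩ := H.trans d (i' := i) (j' := j) (k' := l) (l' := k)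
    ⟨d.ij, d.il, d.ik, d.jl, d.jk, d.kl.symm⟩
  have hk : g * g ∈ fix4 G i j k l := mem_fix4.2 (by simp [mul_smul, h1, h2, h3, h4])
  obtain ⟨f1, f2, f3, _⟩ := mem_fix4.1 hk
  have hm := odd_orderOf (H.odd d) hk
  refine ⟨g ^ orderOf (g * g), ?_, ?_, ?_, ?_⟩
  · rw [← (Commute.refl g).mul_pow]; exact pow_orderOf_eq_one _
  · rw [pow_odd_act f1 hm, h1]
  · rw [pow_odd_act f2 hm, h2]
  · rw [pow_odd_act f3 hm, h3]

omit [Finite G] in
/-- An involution commuting with `e` and acting as `c₀` where `e c₀` has order two. -/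
theorem partner {e c₀ : G} (he : e * e = 1) (hc : c₀ * c₀ = 1)
    (ho : Odd (orderOf (e * c₀ * (e * c₀)))) :
    ∃ c : G, c * c = 1 ∧ e * c = c * e ∧
      ∀ x : Ω, (e * c₀ * (e * c₀)) • x = x → c • x = c₀ • x := by
  set g := e * c₀ with hg
  set z := g ^ orderOf (g * g) with hz
  have hz2 : z * z = 1 := by rw [hz, ← (Commute.refl g).mul_pow]; exact pow_orderOf_eq_one _
  have hege : e * g * e = g⁻¹ := by
    rw [hg, mul_inv_rev, invol_inv he, invol_inv hc]
    simp only [← mul_assoc, he, one_mul]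
  have heze : e * z * e = z := by
    rw [hz, conj_pow_of_invol he, hege, inv_pow, ← hz, invol_inv hz2]
  have hcomm : e * z = z * e := (comm_iff he z).2 heze
  refine ⟨e * z, ?_, ?_, ?_⟩
  · calc e * z * (e * z) = (e * z) * (z * e) := by rw [hcomm]
      _ = e * (z * z) * e := by simp only [mul_assoc]
      _ = 1 := by rw [hz2, mul_one, he]
  · rw [← mul_assoc, he, one_mul, heze]
  · intro x hx
    rw [mul_smul, hz, pow_odd_act hx ho, hg, mul_smul, smul_smul, he, one_smul]

/-- Commuting involutions with complementary fixed pairs. -/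
theorem Hyp.exists_cfg (H : Hyp G Ω) {i j k l : Ω} (d : D4 i j k l) :
    ∃ a b : G, Single a i j k l ∧ Single b k l i j ∧ a * b = b * a := by
  obtain ⟨a, ha⟩ := H.exists_single d
  obtain ⟨b₀, hb⟩ := H.exists_single (i := k) (j := l) (k := i) (l := j)
    ⟨d.kl, d.ik.symm, d.jk.symm, d.il.symm, d.jl.symm, d.ij⟩
  have hk : a * b₀ * (a * b₀) ∈ fix4 G i j k l := mem_fix4.2 (by
    simp [mul_smul, ha.fi, ha.fj, ha.sk, ha.sl, hb.fi, hb.fj, hb.sk, hb.sl])
  obtain ⟨f1, f2, f3, f4⟩ := mem_fix4.1 hk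
  obtain ⟨b, hb2, hab, hact⟩ := partner (Ω := Ω) ha.sq hb.sq (odd_orderOf (H.odd d) hk)
  refine ⟨a, b, ha, ⟨hb2, ?_, ?_, ?_⟩, hab⟩
  · rw [hact k f3, hb.fi]
  · rw [hact l f4, hb.fj]
  · rw [hact i f1, hb.sk]

theorem double_of_cfg {a b : G} {i j k l : Ω} (ha : Single a i j k l) (hb : Single b k l i j)
    (hab : a * b = b * a) : Double (a * b) i j k l := by
  refine ⟨?_, ?_, ?_⟩
  · calc a * b * (a * b) = a * b * (b * a) := by rw [hab]
      _ = a * (b * b) * a := by simp only [mul_assoc]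
      _ = 1 := by rw [hb.sq, mul_one, ha.sq]
  · rw [mul_smul, hb.sk, ha.fj]
  · rw [mul_smul, hb.fi, ha.sk]

theorem coset_conj {K : Subgroup G} (hK : Odd (Nat.card K)) {a a' : G} (ha : a * a = 1)
    (ha' : a' * a' = 1) (hm : a' * a ∈ K) :
    ∃ h ∈ K, h * a * h⁻¹ = a' ∧ ∀ t : G, t * a = a * t → t * a' = a' * t → t * h = h * t := by
  set h := sqrtIn K (a' * a) with hh
  have hinvm : a * (a' * a) * a = (a' * a)⁻¹ := by
    rw [mul_inv_rev, invol_inv ha, invol_inv ha', mul_assoc, mul_assoc, ha, mul_one]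
  have hah : a * h * a = h⁻¹ := by
    rw [hh, conj_sqrtIn ha, hinvm]; exact inv_pow _ _
  refine ⟨h, sqrtIn_mem hm, ?_, fun t h1 h2 => ?_⟩
  · have h3 : a * h⁻¹ * a = h := by rw [conj_inv ha, hah, inv_inv]
    calc h * a * h⁻¹ = h * a * h⁻¹ * (a * a) := by rw [ha, mul_one]
      _ = h * (a * h⁻¹ * a) * a := by simp only [mul_assoc]
      _ = (h * h) * a := by rw [h3]
      _ = a' := by rw [hh, sqrtIn_sq hK hm, mul_assoc, ha, mul_one]
  · have h3 : Commute t (a' * a) := Commute.mul_right h2 h1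
    exact (h3.pow_right _).eq

theorem Single.conj {a g : G} {i j k l i' j' k' l' : Ω} (h : Single a i j k l) (hi : g • i = i')
    (hj : g • j = j') (hk : g • k = k') (hl : g • l = l') :
    Single (g * a * g⁻¹) i' j' k' l' := by
  subst hi hj hk hl
  refine ⟨?_, ?_, ?_, ?_⟩
  · calc g * a * g⁻¹ * (g * a * g⁻¹) = g * (a * a) * g⁻¹ := by group
      _ = 1 := by rw [h.sq]; group
  all_goals simp [mul_smul, h.fi, h.fj, h.sk]

theorem Double.conj {a g : G} {i j k l i' j' k' l' : Ω} (h : Double a i j k l) (hi : g • i = i')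
    (hj : g • j = j') (hk : g • k = k') (hl : g • l = l') :
    Double (g * a * g⁻¹) i' j' k' l' := by
  subst hi hj hk hl
  refine ⟨?_, ?_, ?_⟩
  · calc g * a * g⁻¹ * (g * a * g⁻¹) = g * (a * a) * g⁻¹ := by group
      _ = 1 := by rw [h.sq]; group
  all_goals simp [mul_smul, h.si, h.sk]

theorem Hyp.single_conj (H : Hyp G Ω) {a a' : G} {i j k l i' j' k' l' : Ω} (d : D4 i j k l)
    (d' : D4 i' j' k' l') (ha : Single a i j k l) (ha' : Single a' i' j' k' l') :
    ∃ g : G, g • i = i' ∧ g • j = j' ∧ g • k = k' ∧ g • l = l' ∧ g * a * g⁻¹ = a' := by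
  obtain ⟨g, h1, h2, h3, h4⟩ := H.trans d d'
  have hc := ha.conj h1 h2 h3 h4
  have hm : a' * (g * a * g⁻¹) ∈ fix4 G i' j' k' l' := mem_fix4.2 ⟨
    by rw [mul_smul, hc.fi, ha'.fi], by rw [mul_smul, hc.fj, ha'.fj],
    by rw [mul_smul, hc.sk, ha'.sl], by rw [mul_smul, hc.sl, ha'.sk]⟩
  obtain ⟨h, hh, he, -⟩ := coset_conj (H.odd d') hc.sq ha'.sq hm
  obtain ⟨e1, e2, e3, e4⟩ := mem_fix4.1 hh
  refine ⟨h * g, by rw [mul_smul, h1, e1], by rw [mul_smul, h2, e2], by rw [mul_smul, h3, e3],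
    by rw [mul_smul, h4, e4], ?_⟩
  rw [← he]; group

theorem Hyp.double_conj (H : Hyp G Ω) {a a' : G} {i j k l i' j' k' l' : Ω} (d : D4 i j k l)
    (d' : D4 i' j' k' l') (ha : Double a i j k l) (ha' : Double a' i' j' k' l') :
    ∃ g : G, g • i = i' ∧ g • j = j' ∧ g • k = k' ∧ g • l = l' ∧ g * a * g⁻¹ = a' := by
  obtain ⟨g, h1, h2, h3, h4⟩ := H.trans d d'
  have hc := ha.conj h1 h2 h3 h4
  have hm : a' * (g * a * g⁻¹) ∈ fix4 G i' j' k' l' := mem_fix4.2 ⟨
    by rw [mul_smul, hc.si, ha'.sj], by rw [mul_smul, hc.sj, ha'.si],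
    by rw [mul_smul, hc.sk, ha'.sl], by rw [mul_smul, hc.sl, ha'.sk]⟩
  obtain ⟨h, hh, he, -⟩ := coset_conj (H.odd d') hc.sq ha'.sq hm
  obtain ⟨e1, e2, e3, e4⟩ := mem_fix4.1 hh
  refine ⟨h * g, by rw [mul_smul, h1, e1], by rw [mul_smul, h2, e2], by rw [mul_smul, h3, e3],
    by rw [mul_smul, h4, e4], ?_⟩
  rw [← he]; group

theorem Hyp.pair_conj (H : Hyp G Ω) {a b a' b' : G} {i j k l i' j' k' l' : Ω} (d : D4 i j k l)
    (d' : D4 i' j' k' l') (ha : Single a i j k l) (hb : Single b k l i j) (hab : a * b = b * a)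
    (ha' : Single a' i' j' k' l') (hb' : Single b' k' l' i' j') (hab' : a' * b' = b' * a') :
    ∃ g : G, g • i = i' ∧ g • j = j' ∧ g • k = k' ∧ g • l = l' ∧ g * a * g⁻¹ = a' ∧
      g * b * g⁻¹ = b' := by
  obtain ⟨g, h1, h2, h3, h4, hga⟩ := H.single_conj d d' ha ha'
  have hc := hb.conj h3 h4 h1 h2
  have hm : b' * (g * b * g⁻¹) ∈ fix4 G i' j' k' l' := mem_fix4.2 ⟨
    by rw [mul_smul, hc.sk, hb'.sl], by rw [mul_smul, hc.sl, hb'.sk],
    by rw [mul_smul, hc.fi, hb'.fi], by rw [mul_smul, hc.fj, hb'.fj]⟩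
  obtain ⟨h, hh, he, hcomm⟩ := coset_conj (H.odd d') hc.sq hb'.sq hm
  obtain ⟨e1, e2, e3, e4⟩ := mem_fix4.1 hh
  have ht : a' * h = h * a' := hcomm a' (by rw [← hga, conj_comm_iff]; exact hab) hab'
  refine ⟨h * g, by rw [mul_smul, h1, e1], by rw [mul_smul, h2, e2], by rw [mul_smul, h3, e3],
    by rw [mul_smul, h4, e4], ?_, ?_⟩
  · calc h * g * a * (h * g)⁻¹ = h * (g * a * g⁻¹) * h⁻¹ := by group
      _ = a' := by rw [hga, ← ht, mul_inv_cancel_right]
  · rw [← he]; group

/-! ### Fixed points -/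

variable [Fintype Ω] [DecidableEq Ω]

/-- Fixed points. -/
def fixF (a : G) : Finset Ω := Finset.univ.filter fun x => a • x = x

omit [Finite G] in
theorem mem_fixF {a : G} {x : Ω} : x ∈ fixF (Ω := Ω) a ↔ a • x = x := by simp [fixF]

omit [Finite G] in
theorem card_fixF_conj (g a : G) :
    (fixF (Ω := Ω) (g * a * g⁻¹)).card = (fixF (Ω := Ω) a).card := by
  have : fixF (Ω := Ω) (g * a * g⁻¹) = (fixF (Ω := Ω) a).image (fun x => g • x) := by
    ext y
    simp only [mem_fixF, Finset.mem_image]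
    constructor
    · intro hy
      refine ⟨g⁻¹ • y, ?_, smul_inv_smul g y⟩
      rw [mul_smul, mul_smul] at hy
      exact smul_left_cancel g (by rw [hy, smul_inv_smul])
    · rintro ⟨x, hx, rfl⟩
      rw [mul_smul, mul_smul, inv_smul_smul, hx]
  rw [this, Finset.card_image_of_injective _ (MulAction.injective g)]

omit [Finite G] in
theorem fixF_comm {a t : G} (h : a * t = t * a) {x : Ω} (hx : a • x = x) :
    a • (t • x) = t • x := by
  rw [smul_smul, h, mul_smul, hx]

theorem exists_four {s : Finset Ω} (hs : 4 ≤ s.card) :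
    ∃ i ∈ s, ∃ j ∈ s, ∃ k ∈ s, ∃ l ∈ s, D4 i j k l := by
  obtain ⟨t, hts, htc⟩ := Finset.exists_subset_card_eq hs
  obtain ⟨i, u, hiu, rfl, hu⟩ := Finset.card_eq_succ.1 htc
  obtain ⟨j, k, l, hjk, hjl, hkl, rfl⟩ := Finset.card_eq_three.1 hu
  simp only [Finset.mem_insert, Finset.mem_singleton, not_or] at hiu
  exact ⟨i, hts (by simp), j, hts (by simp), k, hts (by simp), l, hts (by simp),
    hiu.1, hiu.2.1, hiu.2.2, hjk, hjl, hkl⟩

theorem Hyp.card_fixF_le (H : Hyp G Ω) {a : G} (ha : a * a = 1) (h1 : a ≠ 1) :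
    (fixF (Ω := Ω) a).card ≤ 3 := by
  by_contra hc
  obtain ⟨i, hi, j, hj, k, hk, l, hl, d⟩ := exists_four (not_le.1 hc)
  exact h1 (eq_one_of_invol_odd (H.odd d)
    (mem_fix4.2 ⟨mem_fixF.1 hi, mem_fixF.1 hj, mem_fixF.1 hk, mem_fixF.1 hl⟩) ha)

omit [Fintype Ω] [DecidableEq Ω] [Finite G] in
theorem ne_one_of_move {a : G} {x y : Ω} (h : a • x = y) (hxy : x ≠ y) : a ≠ 1 :=
  fun he => hxy (by rw [← h, he, one_smul])

/-- A moved point outside a given moved pair gives a double transposition pattern. -/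
theorem exists_double {a : G} (ha : a * a = 1) {k l r : Ω} (hk : a • k = l) (hkl : k ≠ l)
    (hr : a • r ≠ r) (h1 : r ≠ k) (h2 : r ≠ l) : D4 k l r (a • r) ∧ Double a k l r (a • r) := by
  refine ⟨⟨hkl, h1.symm, ?_, h2.symm, ?_, Ne.symm hr⟩, ha, hk, rfl⟩
  · intro h
    exact h2 (by rw [← hk, h, smul_smul, ha, one_smul])
  · intro h
    exact h1 (MulAction.injective a (by simp only; rw [hk, ← h]))

/-- In degree at least six all involutions with a moved point have as many fixed points as a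
single transposition pattern. -/
theorem Hyp.card_fixF_eq (H : Hyp G Ω) (hn : 6 ≤ Fintype.card Ω) {a t : G} {i j k l : Ω}
    (d : D4 i j k l) (ha : Single a i j k l) (ht : t * t = 1) (ht1 : t ≠ 1) :
    (fixF (Ω := Ω) t).card = (fixF (Ω := Ω) a).card ∧ 2 ≤ (fixF (Ω := Ω) a).card := by
  have hf2 : 2 ≤ (fixF (Ω := Ω) a).card := by
    have hsub : ({i, j} : Finset Ω) ⊆ fixF a := by
      intro x hx
      simp only [Finset.mem_insert, Finset.mem_singleton] at hx
      rcases hx with rfl | rfl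
      · exact mem_fixF.2 ha.fi
      · exact mem_fixF.2 ha.fj
    simpa [Finset.card_pair d.ij] using Finset.card_le_card hsub
  refine ⟨?_, hf2⟩
  have key : ∀ u : G, u * u = 1 → u ≠ 1 → ∃ p q r : Ω, D4 p q r (u • r) ∧ Double u p q r (u • r) := by
    intro u hu hu1
    have hm : 3 ≤ (Finset.univ \ fixF (Ω := Ω) u).card := by
      rw [Finset.card_sdiff_of_subset (Finset.subset_univ _), Finset.card_univ]
      have := H.card_fixF_le hu hu1
      omega
    obtain ⟨p, hp⟩ := Finset.card_pos.1 (by omega : 0 < (Finset.univ \ fixF (Ω := Ω) u).card)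
    have hp' : u • p ≠ p := fun h => (Finset.mem_sdiff.1 hp).2 (mem_fixF.2 h)
    obtain ⟨r, hr, hr'⟩ := Finset.exists_mem_notMem_of_card_lt_card
      (s := {p, u • p}) (t := Finset.univ \ fixF (Ω := Ω) u) (by
        have : ({p, u • p} : Finset Ω).card ≤ 2 := Finset.card_le_two
        omega)
    simp only [Finset.mem_insert, Finset.mem_singleton, not_or] at hr'
    exact ⟨p, u • p, r, exists_double hu rfl (Ne.symm hp')
      (fun h => (Finset.mem_sdiff.1 hr).2 (mem_fixF.2 h)) hr'.1 hr'.2⟩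
  obtain ⟨p, q, r, d1, D1⟩ := key t ht ht1
  obtain ⟨p', q', r', d2, D2⟩ := key a ha.sq (ne_one_of_move ha.sk d.kl)
  obtain ⟨g, -, -, -, -, hg⟩ := H.double_conj d2 d1 D2 D1
  rw [← hg, card_fixF_conj]

/-- The orbit of `C(a)` on ordered (fixed, fixed, moved) triples and moved patterns. -/
theorem Hyp.count (H : Hyp G Ω) (hn : 6 ≤ Fintype.card Ω) {a e : G} {i j k l : Ω}
    (d : D4 i j k l) (ha : Single a i j k l) (he : Double e i j k l) :
    (fixF (Ω := Ω) a).card * ((fixF (Ω := Ω) a).card - 1) * Nat.card (cent (fix4 G i j k l) a) =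
      (Fintype.card Ω - (fixF (Ω := Ω) a).card - 2) * Nat.card (cent (fix4 G i j k l) e) := by
  classical
  set f := (fixF (Ω := Ω) a).card with hf
  set n := Fintype.card Ω
  set M : Finset Ω := Finset.univ \ fixF a with hM
  have hMm : ∀ x, x ∈ M ↔ a • x ≠ x := fun x => by simp [hM, mem_fixF]
  have hMc : M.card = n - f := by
    rw [hM, Finset.card_sdiff_of_subset (Finset.subset_univ _), Finset.card_univ]
  set C := Subgroup.centralizer ({a} : Set G) with hC
  have hmemC : ∀ g : G, g ∈ C ↔ a * g = g * a := fun g => by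
    simp [hC, Subgroup.mem_centralizer_singleton_iff, eq_comm]
  have comm_of : ∀ {g : G}, g * a * g⁻¹ = a → a * g = g * a := fun {g} h => by
    calc a * g = (g * a * g⁻¹) * g := by rw [h]
      _ = g * a := inv_mul_cancel_right _ _
  -- triples
  have e1 : Nat.card C = (f * f - f) * (n - f) * Nat.card (cent (fix4 G i j k l) a) := by
    have horb : MulAction.orbit C ((i, j), k) =
        (((fixF (Ω := Ω) a).offDiag ×ˢ M : Finset ((Ω × Ω) × Ω)) : Set ((Ω × Ω) × Ω)) := by
      ext ⟨⟨u, v⟩, w⟩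
      simp only [Finset.mem_coe, Finset.mem_product, Finset.mem_offDiag, mem_fixF, hMm]
      constructor
      · rintro ⟨⟨g, hg⟩, hgx⟩
        simp only [Subgroup.smul_def, Prod.smul_mk, Prod.mk.injEq] at hgx
        obtain ⟨⟨rfl, rfl⟩, rfl⟩ := hgx
        have hg' := (hmemC g).1 hg
        refine ⟨⟨fixF_comm hg' ha.fi, fixF_comm hg' ha.fj,
          fun h => d.ij (MulAction.injective g h)⟩, fun h => d.kl ?_⟩
        rw [smul_smul, hg', mul_smul, ha.sk] at h
        exact (MulAction.injective g h).symm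
      · rintro ⟨⟨hu, hv, huv⟩, hw⟩
        have d' : D4 u v w (a • w) := ⟨huv, fun h => hw (h ▸ hu),
          fun h => hw (by have := congrArg (a • ·) h; simp only [hu, smul_smul, ha.sq, one_smul] at this; rw [h] at this; exact this),
          fun h => hw (h ▸ hv),
          fun h => hw (by have := congrArg (a • ·) h; simp only [hv, smul_smul, ha.sq, one_smul] at this; rw [h] at this; exact this),
          Ne.symm hw⟩
        obtain ⟨g, g1, g2, g3, -, hg⟩ := H.single_conj d d' ha ⟨ha.sq, hu, hv, rfl⟩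
        exact ⟨⟨g, (hmemC g).2 (comm_of hg)⟩, by simp [Subgroup.smul_def, g1, g2, g3]⟩
    have hst : (MulAction.stabilizer C ((i, j), k)).map C.subtype = cent (fix4 G i j k l) a := by
      ext g
      simp only [Subgroup.mem_map, Subgroup.coe_subtype, mem_cent, mem_fix4]
      constructor
      · rintro ⟨⟨g, hg⟩, hgx, rfl⟩
        simp only [MulAction.mem_stabilizer_iff, Subgroup.smul_def, Prod.smul_mk, Prod.mk.injEq] at hgx
        obtain ⟨⟨g1, g2⟩, g3⟩ := hgx
        have hg' := (hmemC g).1 hg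
        refine ⟨⟨g1, g2, g3, ?_⟩, hg'⟩
        change g • l = l
        rw [← ha.sk, smul_smul, ← hg', mul_smul, g3]
      · rintro ⟨⟨g1, g2, g3, -⟩, hg⟩
        exact ⟨⟨g, (hmemC g).2 hg⟩, by simp [MulAction.mem_stabilizer_iff, Subgroup.smul_def, g1, g2, g3], rfl⟩
    have h1 := MulAction.index_stabilizer C ((i, j), k)
    rw [horb, Set.ncard_coe_finset, Finset.card_product, Finset.offDiag_card, hMc, ← hf] at h1
    rw [← Subgroup.card_mul_index (MulAction.stabilizer C ((i, j), k)), h1, ← hst,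
      Subgroup.card_map_of_injective C.subtype_injective]
    ring
  -- patterns
  have e2 : Nat.card C = (n - f) * (n - f - 2) * Nat.card (cent (fix4 G i j k l) e) := by
    obtain ⟨hef, -⟩ := H.card_fixF_eq hn d ha he.sq (ne_one_of_move he.si d.ij)
    have hek : k ∈ M := (hMm k).2 (by rw [ha.sk]; exact d.kl.symm)
    obtain ⟨r, hr, hr'⟩ := Finset.exists_mem_notMem_of_card_lt_card (s := {k, l}) (t := M) (by
      have h2 : ({k, l} : Finset Ω).card ≤ 2 := Finset.card_le_two
      have h3 := H.card_fixF_le ha.sq (ne_one_of_move ha.sk d.kl)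
      rw [← hf] at h3
      omega)
    simp only [Finset.mem_insert, Finset.mem_singleton, not_or] at hr'
    obtain ⟨d0, D0⟩ := exists_double ha.sq ha.sk d.kl ((hMm r).1 hr) hr'.1 hr'.2
    set T : Finset (Ω × Ω) := (M ×ˢ M).filter fun p => p.2 ≠ p.1 ∧ p.2 ≠ a • p.1 with hT
    have horb : MulAction.orbit C (k, r) = (T : Set (Ω × Ω)) := by
      ext ⟨p, q⟩
      simp only [hT, Finset.mem_coe, Finset.mem_filter, Finset.mem_product, hMm]
      constructor
      · rintro ⟨⟨g, hg⟩, hgx⟩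
        simp only [Subgroup.smul_def, Prod.smul_mk, Prod.mk.injEq] at hgx
        obtain ⟨rfl, rfl⟩ := hgx
        have hg' := (hmemC g).1 hg
        have mv : ∀ {x : Ω}, a • x ≠ x → a • (g • x) ≠ g • x := by
          intro x hx h
          rw [smul_smul, hg', mul_smul] at h
          exact hx (MulAction.injective g h)
        refine ⟨⟨mv ((hMm k).1 hek), mv ((hMm r).1 hr)⟩, fun h => d0.ik (MulAction.injective g h).symm,
          fun h => ?_⟩
        rw [smul_smul, hg', mul_smul, ha.sk] at h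
        exact d0.jk (MulAction.injective g h).symm
      · rintro ⟨⟨hp, hq⟩, h1, h2⟩
        obtain ⟨d', D'⟩ := exists_double ha.sq rfl (Ne.symm hp) hq h1 h2
        obtain ⟨g, g1, -, g3, -, hg⟩ := H.double_conj d0 d' D0 D'
        exact ⟨⟨g, (hmemC g).2 (comm_of hg)⟩, by simp [Subgroup.smul_def, g1, g3]⟩
    have hst : (MulAction.stabilizer C (k, r)).map C.subtype = cent (fix4 G k l r (a • r)) a := by
      ext g
      simp only [Subgroup.mem_map, Subgroup.coe_subtype, mem_cent, mem_fix4]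
      constructor
      · rintro ⟨⟨g, hg⟩, hgx, rfl⟩
        simp only [MulAction.mem_stabilizer_iff, Subgroup.smul_def, Prod.smul_mk, Prod.mk.injEq] at hgx
        obtain ⟨g1, g2⟩ := hgx
        have hg' := (hmemC g).1 hg
        refine ⟨⟨g1, ?_, g2, ?_⟩, hg'⟩
        · change g • l = l
          rw [← ha.sk, smul_smul, ← hg', mul_smul, g1]
        · change g • (a • r) = a • r
          rw [smul_smul, ← hg', mul_smul, g2]
      · rintro ⟨⟨g1, -, g3, -⟩, hg⟩
        exact ⟨⟨g, (hmemC g).2 hg⟩, by simp [MulAction.mem_stabilizer_iff, Subgroup.smul_def, g1, g3], rfl⟩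
    obtain ⟨g, g1, g2, g3, g4, hg⟩ := H.double_conj d d0 he D0
    have hc : Nat.card (cent (fix4 G k l r (a • r)) a) = Nat.card (cent (fix4 G i j k l) e) :=
      card_eq_of_conj g fun x => by
        have := conj_mem_cent g (conj_mem_fix4 g1 g2 g3 g4) e x
        rwa [hg] at this
    have hTc : T.card = (n - f) * (n - f - 2) := by
      rw [Finset.card_eq_sum_card_fiberwise (f := Prod.fst) (t := M)
        (fun p hp => (Finset.mem_product.1 (Finset.mem_filter.1 hp).1).1)]
      rw [Finset.sum_const_nat (m := n - f - 2), hMc]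
      intro p hp
      have hfib : T.filter (fun x => x.1 = p) = (M \ {p, a • p}).image (fun q => (p, q)) := by
        ext ⟨x, q⟩
        simp only [hT, Finset.mem_filter, Finset.mem_product, Finset.mem_image, Finset.mem_sdiff,
          Finset.mem_insert, Finset.mem_singleton, Prod.mk.injEq, not_or]
        constructor
        · rintro ⟨⟨⟨-, hq⟩, h1, h2⟩, rfl⟩
          exact ⟨q, ⟨hq, h1, h2⟩, rfl, rfl⟩
        · rintro ⟨q, ⟨hq, h1, h2⟩, rfl, rfl⟩
          exact ⟨⟨⟨hp, hq⟩, h1, h2⟩, rfl⟩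
      have hap : a • p ∈ M := (hMm _).2 (by
        rw [smul_smul, ha.sq, one_smul]; exact Ne.symm ((hMm p).1 hp))
      rw [hfib, Finset.card_image_of_injective _ (fun _ _ h => (Prod.mk.injEq _ _ _ _ ▸ h).2),
        Finset.card_sdiff_of_subset (by
          intro x hx
          simp only [Finset.mem_insert, Finset.mem_singleton] at hx
          rcases hx with rfl | rfl <;> assumption),
        Finset.card_pair (Ne.symm ((hMm p).1 hp)), hMc]
    have h1 := MulAction.index_stabilizer C (k, r)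
    rw [horb, Set.ncard_coe_finset, hTc] at h1
    rw [← Subgroup.card_mul_index (MulAction.stabilizer C (k, r)), h1, ← hc, ← hst,
      Subgroup.card_map_of_injective C.subtype_injective]
    ring
  have hpos : 0 < n - f := by
    have h3 := H.card_fixF_le ha.sq (ne_one_of_move ha.sk d.kl)
    rw [← hf] at h3
    omega
  have h := e1.symm.trans e2
  rw [show f * f - f = f * (f - 1) from (Nat.mul_sub_one f f).symm] at h
  apply Nat.eq_of_mul_eq_mul_left hpos
  calc (n - f) * (f * (f - 1) * Nat.card (cent (fix4 G i j k l) a))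
      = f * (f - 1) * (n - f) * Nat.card (cent (fix4 G i j k l) a) := by ring
    _ = _ := by rw [h]; ring

end Cfsg.Agent.FourTrans
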