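import Cfsg.Agent.Lib.FourTrans.Basic

/-!
Hall's theorem, involutions with two fixed points: the degree is six.
-/

namespace Cfsg.Agent.FourTrans

variable {G : Type*} [Group G] {Ω : Type*} [MulAction G Ω] [Finite G]

theorem Hyp.double_card (H : Hyp G Ω) {e e' : G} {i j k l i' j' k' l' : Ω} (d : D4 i j k l)
    (d' : D4 i' j' k' l') (he : Double e i j k l) (he' : Double e' i' j' k' l') :
    Nat.card (cent (fix4 G i' j' k' l') e') = Nat.card (cent (fix4 G i j k l) e) := by
  obtain ⟨g, h1, h2, h3, h4, hg⟩ := H.double_conj d d' he he'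
  exact card_eq_of_conj g fun x => by
    have := conj_mem_cent g (conj_mem_fix4 h1 h2 h3 h4) e x
    rwa [hg] at this

theorem Hyp.single_card (H : Hyp G Ω) {e e' : G} {i j k l i' j' k' l' : Ω} (d : D4 i j k l)
    (d' : D4 i' j' k' l') (he : Single e i j k l) (he' : Single e' i' j' k' l') :
    Nat.card (cent (fix4 G i' j' k' l') e') = Nat.card (cent (fix4 G i j k l) e) := by
  obtain ⟨g, h1, h2, h3, h4, hg⟩ := H.single_conj d d' he he'
  exact card_eq_of_conj g fun x => by
    have := conj_mem_cent g (conj_mem_fix4 h1 h2 h3 h4) e x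
    rwa [hg] at this

theorem D4.swap {i j k l : Ω} (d : D4 i j k l) : D4 k l i j :=
  ⟨d.kl, d.ik.symm, d.jk.symm, d.il.symm, d.jl.symm, d.ij⟩

theorem D4.mid {i j k l : Ω} (d : D4 i j k l) : D4 i k j l :=
  ⟨d.ik, d.ij, d.il, d.jk.symm, d.kl, d.jl⟩

theorem D4.last {i j k l : Ω} (d : D4 i j k l) : D4 i l j k :=
  ⟨d.il, d.ij, d.ik, d.jl.symm, d.kl.symm, d.jk⟩

omit [Finite G] in
theorem fix4_last (i j k l : Ω) : fix4 G i l j k = fix4 G i j k l := by
  ext g; simp [mem_fix4]; tauto

omit [Finite G] in
theorem Single.normalise {a : G} {i j k l : Ω} (h : Single a i j k l) :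
    ∀ x ∈ fix4 G i j k l, a * x * a ∈ fix4 G i j k l :=
  conj_normalise h.sq h.fi h.fj h.sk h.sl (by ext g; simp [mem_fix4]; tauto)

omit [Finite G] in
theorem Single.normalise' {a : G} {i j k l : Ω} (h : Single a k l i j) :
    ∀ x ∈ fix4 G i j k l, a * x * a ∈ fix4 G i j k l :=
  fix4_perm_swap (G := G) i j k l ▸ h.normalise

omit [Finite G] in
theorem Double.normalise {a : G} {i j k l : Ω} (h : Double a i j k l) :
    ∀ x ∈ fix4 G i j k l, a * x * a ∈ fix4 G i j k l :=
  conj_normalise h.sq h.si h.sj h.sk h.sl (by ext g; simp [mem_fix4]; tauto)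

omit [Finite G] in
theorem Double.normalise_mid {a : G} {i j k l : Ω} (h : Double a i k j l) :
    ∀ x ∈ fix4 G i j k l, a * x * a ∈ fix4 G i j k l :=
  fix4_perm_mid (G := G) i j k l ▸ h.normalise

/-- The second four-group `⟨e, c⟩` inside the pattern group of a quadruple. -/
theorem Hyp.exists_cross (H : Hyp G Ω) {e : G} {i j k l : Ω} (d : D4 i j k l)
    (he : Double e i j k l) :
    ∃ c : G, e * c = c * e ∧ Double c i k j l ∧ Double (e * c) i l j k := by
  obtain ⟨a', b', ha', hb', hab'⟩ := H.exists_cfg d.mid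
  have hc := double_of_cfg ha' hb' hab'
  set c₀ := a' * b'
  have hk : e * c₀ * (e * c₀) ∈ fix4 G i j k l := mem_fix4.2 (by
    simp [mul_smul, he.si, he.sj, he.sk, he.sl, hc.si, hc.sj, hc.sk, hc.sl])
  obtain ⟨f1, f2, -, -⟩ := mem_fix4.1 hk
  obtain ⟨c, hc2, hec, hact⟩ := partner (Ω := Ω) he.sq hc.sq (odd_orderOf (H.odd d) hk)
  have hck : c • i = k := by rw [hact i f1, hc.si]
  have hcl : c • j = l := by rw [hact j f2, hc.sk]
  refine ⟨c, hec, ⟨hc2, hck, hcl⟩, ⟨?_, ?_, ?_⟩⟩
  · calc e * c * (e * c) = e * c * (c * e) := by rw [hec]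
      _ = e * (c * c) * e := by simp only [mul_assoc]
      _ = 1 := by rw [hc2, mul_one, he.sq]
  · rw [mul_smul, hck, he.sk]
  · rw [mul_smul, hcl, he.sl]

theorem Double.ne_one {e : G} {i j k l : Ω} (he : Double e i j k l) (d : D4 i j k l) : e ≠ 1 :=
  ne_one_of_move he.si d.ij

variable [Fintype Ω] [DecidableEq Ω]

omit [Finite G] [Fintype Ω] [DecidableEq Ω] in
theorem moved_of_double {e : G} {i j k l x : Ω} (d : D4 i j k l) (he : Double e i j k l)
    (hx : e • x = x) : x ≠ i ∧ x ≠ j ∧ x ≠ k ∧ x ≠ l := by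
  refine ⟨?_, ?_, ?_, ?_⟩ <;> intro h <;> rw [h] at hx
  · exact d.ij (hx.symm.trans he.si)
  · exact d.ij (he.sj.symm.trans hx)
  · exact d.kl (hx.symm.trans he.sk)
  · exact d.kl (he.sl.symm.trans hx)

/-- An odd-order element centralising an involution with a two-point fixed set fixes it. -/
theorem fix_of_pair_set {K : Subgroup G} (hK : Odd (Nat.card K)) {v t : G} {x y : Ω}
    (hv : fixF (Ω := Ω) v = {x, y}) (ht : t ∈ cent K v) : t • x = x ∧ t • y = y := by
  obtain ⟨htK, htv⟩ := mem_cent.1 ht
  have ho := odd_orderOf hK htK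
  have mem : ∀ z, v • z = z ↔ z = x ∨ z = y := fun z => by rw [← mem_fixF, hv]; simp
  have hx := (mem _).1 (fixF_comm htv ((mem x).2 (Or.inl rfl)))
  have hy := (mem _).1 (fixF_comm htv ((mem y).2 (Or.inr rfl)))
  exact ⟨odd_fix_pair ho hx hy, odd_fix_pair ho (x := y) (y := x) hy.symm hx.symm⟩

omit [Fintype Ω] [DecidableEq Ω] in
/-- An odd-order element commuting with an involution cannot act as it on a moved point. -/
theorem no_translation {t v : G} (ht : Odd (orderOf t)) (hv : v * v = 1) (hc : v * t = t * v)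
    {z : Ω} (h : t • z = v • z) : v • z = z := by
  have h' : t • (v • z) = z := by rw [smul_smul, ← hc, mul_smul, h, smul_smul, hv, one_smul]
  exact h.symm.trans (odd_fix_pair ht (Or.inr h) (Or.inl h'))

/-- **Hall, even case.** -/
theorem Hyp.even (H : Hyp G Ω) (hn : 6 ≤ Fintype.card Ω) {a b : G} {i j k l : Ω}
    (d : D4 i j k l) (ha : Single a i j k l) (hb : Single b k l i j) (hab : a * b = b * a)
    (hf : (fixF (Ω := Ω) a).card = 2) : Fintype.card Ω = 6 := by
  classical
  set K := fix4 G i j k l with hKdef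
  have hK : Odd (Nat.card K) := H.odd d
  set e := a * b with hedef
  have he : Double e i j k l := double_of_cfg ha hb hab
  have hea : a * e = e * a := by rw [hedef, mul_assoc a b a, ← hab]
  have hcount := H.count hn d ha he
  rw [hf, ← hKdef] at hcount
  have hfix : ∀ {t : G}, t * t = 1 → t ≠ 1 → (fixF (Ω := Ω) t).card = 2 := fun ht ht1 => by
    rw [(H.card_fixF_eq hn d ha ht ht1).1, hf]
  obtain ⟨x, y, hxy, hFe⟩ := Finset.card_eq_two.1 (hfix he.sq (he.ne_one d))
  have mem_e : ∀ z, e • z = z ↔ z = x ∨ z = y := fun z => by rw [← mem_fixF, hFe]; simp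
  have hex : e • x = x := (mem_e x).2 (Or.inl rfl)
  have hey : e • y = y := (mem_e y).2 (Or.inr rfl)
  obtain ⟨nxi, nxj, nxk, nxl⟩ := moved_of_double d he hex
  obtain ⟨nyi, nyj, nyk, nyl⟩ := moved_of_double d he hey
  have hFa : fixF (Ω := Ω) a = {i, j} := (Finset.eq_of_subset_of_card_le (by
    intro z hz
    simp only [Finset.mem_insert, Finset.mem_singleton] at hz
    rcases hz with rfl | rfl
    · exact mem_fixF.2 ha.fi
    · exact mem_fixF.2 ha.fj) (by rw [hf, Finset.card_pair d.ij])).symm
  have hax : a • x = y := by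
    rcases (mem_e _).1 (fixF_comm hea.symm hex) with h | h
    · exfalso
      have h' : x ∈ fixF (Ω := Ω) a := mem_fixF.2 h
      simp [hFa, nxi, nxj] at h'
    · exact h
  obtain ⟨c, hec, hc, hcd⟩ := H.exists_cross d he
  set dd := e * c with hdd
  have hBc : Nat.card (cent K c) = Nat.card (cent K e) := by
    rw [← H.double_card d d.mid he hc, fix4_perm_mid]
  have hBd : Nat.card (cent K dd) = Nat.card (cent K e) := by
    rw [← H.double_card d d.last he hcd, fix4_last]
  have hd2 : dd * dd = 1 := hcd.sq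
  by_cases hcx : c • x = x
  · -- all three centralisers fix `x` and `y`
    have hcy : c • y = y := by
      rcases (mem_e _).1 (fixF_comm hec hey) with h | h
      · exact absurd (MulAction.injective c (h.trans hcx.symm)) hxy.symm
      · exact h
    have hFc : fixF (Ω := Ω) c = {x, y} := (Finset.eq_of_subset_of_card_le (by
      intro z hz
      simp only [Finset.mem_insert, Finset.mem_singleton] at hz
      rcases hz with rfl | rfl
      · exact mem_fixF.2 hcx
      · exact mem_fixF.2 hcy) (by rw [hfix hc.sq (hc.ne_one d.mid), Finset.card_pair hxy])).symm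
    have hFd : fixF (Ω := Ω) dd = {x, y} := (Finset.eq_of_subset_of_card_le (by
      intro z hz
      simp only [Finset.mem_insert, Finset.mem_singleton] at hz
      rcases hz with rfl | rfl
      · exact mem_fixF.2 (by rw [hdd, mul_smul, hcx, hex])
      · exact mem_fixF.2 (by rw [hdd, mul_smul, hcy, hey]))
      (by rw [hfix hcd.sq (hcd.ne_one d.last), Finset.card_pair hxy])).symm
    have hKfix : K ≤ MulAction.stabilizer G x ⊓ MulAction.stabilizer G y := by
      refine le_of_cent_le hK he.sq hc.sq hec he.normalise hc.normalise_mid ?_ ?_ ?_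
      · exact fun t ht => ⟨(fix_of_pair_set hK hFe ht).1, (fix_of_pair_set hK hFe ht).2⟩
      · exact fun t ht => ⟨(fix_of_pair_set hK hFc ht).1, (fix_of_pair_set hK hFc ht).2⟩
      · exact fun t ht => ⟨(fix_of_pair_set hK hFd ht).1, (fix_of_pair_set hK hFd ht).2⟩
    have hd' : D4 k l x y := ⟨d.kl, nxk.symm, nyk.symm, nxl.symm, nyl.symm, hxy⟩
    have hAB : Nat.card (cent K a) ≤ Nat.card (cent K e) := by
      rw [← H.double_card d hd' he ⟨ha.sq, ha.sk, hax⟩]
      refine Nat.card_le_card_of_injective (Subgroup.inclusion ?_) (Subgroup.inclusion_injective _)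
      intro t ht
      obtain ⟨htK, hta⟩ := mem_cent.1 ht
      obtain ⟨-, -, tk, tl⟩ := mem_fix4.1 htK
      exact mem_cent.2 ⟨mem_fix4.2 ⟨tk, tl, (hKfix htK).1, (hKfix htK).2⟩, hta⟩
    have h6 : (Fintype.card Ω - 2 - 2) * Nat.card (cent K e) ≤ 2 * Nat.card (cent K e) := by
      rw [← hcount]; omega
    have := Nat.le_of_mul_le_mul_right h6 Nat.card_pos
    omega
  · exfalso
    have hcxy : c • x = y := by
      rcases (mem_e _).1 (fixF_comm hec hex) with h | h
      · exact absurd h hcx
      · exact h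
    obtain ⟨p, q, hpq, hFc⟩ := Finset.card_eq_two.1 (hfix hc.sq (hc.ne_one d.mid))
    have mem_c : ∀ z, c • z = z ↔ z = p ∨ z = q := fun z => by rw [← mem_fixF, hFc]; simp
    have hcp : c • p = p := (mem_c p).2 (Or.inl rfl)
    have hcq : c • q = q := (mem_c q).2 (Or.inr rfl)
    have hne : ∀ z, c • z = z → z ≠ x ∧ z ≠ y := by
      intro z hz
      refine ⟨fun h => hcx (h ▸ hz), fun h => hxy ?_⟩
      rw [h] at hz
      exact (MulAction.injective c (hcxy.trans hz.symm))
    have hep : e • p = q := by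
      rcases (mem_c _).1 (fixF_comm hec.symm hcp) with h | h
      · rcases (mem_e _).1 h with h' | h'
        · exact absurd h' (hne p hcp).1
        · exact absurd h' (hne p hcp).2
      · exact h
    have d' : D4 x y p q := ⟨hxy, (hne p hcp).1.symm, (hne q hcq).1.symm, (hne p hcp).2.symm,
      (hne q hcq).2.symm, hpq⟩
    obtain ⟨g, g1, g2, g3, g4, hga, hgb⟩ := H.pair_conj d d' ha hb hab
      ⟨he.sq, hex, hey, hep⟩ ⟨hc.sq, hcp, hcq, hcxy⟩ hec
    set K' := fix4 G x y p q with hK'def
    set U := cent (cent K' c) e with hUdef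
    set W := cent (cent K c) e with hWdef
    have hUcard : Nat.card U = Nat.card (cent (cent K b) a) :=
      card_eq_of_conj g fun t => by
        have h1 := conj_mem_cent g (conj_mem_cent g (conj_mem_fix4 g1 g2 g3 g4) b) a t
        rwa [hga, hgb] at h1
    have hU : ∀ t ∈ U, (t • x = x ∧ t • y = y ∧ t • p = p ∧ t • q = q) ∧ c * t = t * c ∧
        e * t = t * e ∧ Odd (orderOf t) := by
      intro t ht
      obtain ⟨ht', hte⟩ := mem_cent.1 ht
      obtain ⟨htK, htc⟩ := mem_cent.1 ht'
      exact ⟨mem_fix4.1 htK, htc, hte, odd_orderOf (H.odd d') htK⟩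
    set O := (MulAction.orbit U i).toFinset with hO
    -- orbit stabiliser
    have hUW : Nat.card U = O.card * Nat.card W := by
      have hst : (MulAction.stabilizer U i).map U.subtype = W := by
        ext t
        simp only [Subgroup.mem_map, Subgroup.coe_subtype, hWdef, mem_cent, hKdef, mem_fix4]
        constructor
        · rintro ⟨⟨t, ht⟩, hti, rfl⟩
          simp only [MulAction.mem_stabilizer_iff, Subgroup.smul_def] at hti
          obtain ⟨-, htc, hte, -⟩ := hU t ht
          have hj : t • j = j := by rw [← he.si, smul_smul, ← hte, mul_smul, hti]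
          have hk : t • k = k := by rw [← hc.si, smul_smul, ← htc, mul_smul, hti]
          have hl : t • l = l := by rw [← he.sk, smul_smul, ← hte, mul_smul, hk]
          exact ⟨⟨⟨hti, hj, hk, hl⟩, htc⟩, hte⟩
        · rintro ⟨⟨⟨t1, t2, t3, t4⟩, htc⟩, hte⟩
          have htK : t ∈ K := mem_fix4.2 ⟨t1, t2, t3, t4⟩
          have hx' := fix_of_pair_set hK hFe (mem_cent.2 ⟨htK, hte⟩)
          have hp' := fix_of_pair_set hK hFc (mem_cent.2 ⟨htK, htc⟩)
          refine ⟨⟨t, mem_cent.2 ⟨mem_cent.2 ⟨mem_fix4.2 ⟨hx'.1, hx'.2, hp'.1, hp'.2⟩, htc⟩, hte⟩⟩,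
            by simpa [MulAction.mem_stabilizer_iff, Subgroup.smul_def] using t1, rfl⟩
      rw [← Subgroup.card_mul_index (MulAction.stabilizer U i), MulAction.index_stabilizer,
        Set.ncard_eq_toFinset_card', ← hO, ← hst,
        Subgroup.card_map_of_injective U.subtype_injective, mul_comm]
    -- the two order formulas
    have f1 := card_four_group hK ha.sq hb.sq hab ha.normalise hb.normalise'
    have f2 := card_four_group hK he.sq hc.sq hec he.normalise hc.normalise_mid
    have hAb : Nat.card (cent K b) = Nat.card (cent K a) := by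
      rw [← H.single_card d d.swap ha hb, fix4_perm_swap]
    rw [← hedef, hAb] at f1
    rw [← hdd, hBc, hBd] at f2
    have hsq : (Nat.card (cent K a) * Nat.card W) ^ 2
        = (Nat.card (cent K e) * Nat.card (cent (cent K b) a)) ^ 2 := by
      apply Nat.eq_of_mul_eq_mul_left (Nat.card_pos (α := K))
      calc Nat.card K * (Nat.card (cent K a) * Nat.card W) ^ 2
          = Nat.card (cent K a) ^ 2 * (Nat.card K * Nat.card W ^ 2) := by ring
        _ = Nat.card (cent K e) ^ 2 *
            (Nat.card (cent K a) * Nat.card (cent K a) * Nat.card (cent K e)) := by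
              rw [hWdef, f2]; ring
        _ = _ := by rw [← f1]; ring
    have hAw := Nat.pow_left_injective two_ne_zero hsq
    rw [← hUcard, hUW] at hAw
    have hA : Nat.card (cent K a) = Nat.card (cent K e) * O.card :=
      Nat.eq_of_mul_eq_mul_right (Nat.card_pos (α := W)) (by rw [hAw]; ring)
    have hOn : 2 * O.card = Fintype.card Ω - 2 - 2 := by
      apply Nat.eq_of_mul_eq_mul_right (Nat.card_pos (α := cent K e))
      rw [← hcount, hA]; ring
    -- four disjoint translates of the orbit
    have hOmem : ∀ z ∈ O, ∃ t ∈ U, t • i = z := by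
      intro z hz
      rw [hO, Set.mem_toFinset] at hz
      obtain ⟨⟨t, ht⟩, htz⟩ := hz
      exact ⟨t, ht, htz⟩
    have hde : e * dd = dd * e := by
      rw [hdd, mul_assoc e c e, ← hec]
    have hdc : c * dd = dd * c := by
      rw [hdd, ← mul_assoc, ← hec]
    have hUd : ∀ t ∈ U, dd * t = t * dd := by
      intro t ht
      obtain ⟨-, htc, hte, -⟩ := hU t ht
      rw [hdd, mul_assoc, htc, ← mul_assoc, hte, mul_assoc]
    have hmove : ∀ v, v = e ∨ v = c ∨ v = dd → ∀ z ∈ O, v • z ∉ O ∧ v • z ≠ z := by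
      intro v hv z hz
      have hvi : v • i ≠ i ∧ v * v = 1 ∧ ∀ t ∈ U, v * t = t * v := by
        rcases hv with rfl | rfl | rfl
        · exact ⟨by rw [he.si]; exact d.ij.symm, he.sq, fun t ht => (hU t ht).2.2.1⟩
        · exact ⟨by rw [hc.si]; exact d.ik.symm, hc.sq, fun t ht => (hU t ht).2.1⟩
        · exact ⟨by rw [hcd.si]; exact d.il.symm, hd2, hUd⟩
      obtain ⟨t, ht, rfl⟩ := hOmem z hz
      have hmv : v • (t • i) = t • (v • i) := by rw [smul_smul, hvi.2.2 t ht, mul_smul]
      refine ⟨fun h => ?_, fun h => hvi.1 (MulAction.injective t (by simp only; rw [← hmv, h]))⟩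
      obtain ⟨t', ht', hte⟩ := hOmem _ h
      have hs : (t⁻¹ * t') • i = v • i := by rw [mul_smul, hte, hmv, inv_smul_smul]
      exact hvi.1 (no_translation (hU _ (U.mul_mem (U.inv_mem ht) ht')).2.2.2 hvi.2.1
        (hvi.2.2 _ (U.mul_mem (U.inv_mem ht) ht')) hs)
    set S := O ∪ O.image (e • ·) ∪ O.image (c • ·) ∪ O.image (dd • ·) with hS
    have hedc : ∀ z : Ω, c • (e • z) = dd • z := fun z => by
      change c • (e • z) = (e * c) • z
      rw [smul_smul, ← hec]
    have hScard : S.card = 4 * O.card := by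
      have h2 : ∀ v : G, (O.image (v • ·)).card = O.card :=
        fun v => Finset.card_image_of_injective _ (MulAction.injective v)
      rw [hS, Finset.card_union_of_disjoint, Finset.card_union_of_disjoint,
        Finset.card_union_of_disjoint, h2, h2, h2]
      · ring
      all_goals
        rw [Finset.disjoint_left]
        intro z hz hz'
        simp only [Finset.mem_union, Finset.mem_image] at hz hz'
        obtain ⟨w, hw, rfl⟩ := hz'
      · exact (hmove e (by tauto) w hw).1 hz
      · rcases hz with hz | ⟨u, hu, huw⟩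
        · exact (hmove c (by tauto) w hw).1 hz
        · have : dd • u = w := by rw [← hedc, huw, smul_smul, hc.sq, one_smul]
          exact (hmove dd (by tauto) u hu).1 (this ▸ hw)
      · rcases hz with (hz | ⟨u, hu, huw⟩) | ⟨u, hu, huw⟩
        · exact (hmove dd (by tauto) w hw).1 hz
        · have : u = c • w := MulAction.injective e (by
            simp only; rw [huw, hdd, mul_smul])
          exact (hmove c (by tauto) w hw).1 (this ▸ hu)
        · have : u = e • w := MulAction.injective c (by
            simp only; rw [huw, hedc])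
          exact (hmove e (by tauto) w hw).1 (this ▸ hu)
    have hSsub : S ⊆ Finset.univ \ (fixF e ∪ fixF c ∪ fixF dd) := by
      intro z hz
      simp only [Finset.mem_sdiff, Finset.mem_univ, true_and, Finset.mem_union, mem_fixF]
      have hz' : ∃ w ∈ O, ∃ u : G, (e * u = u * e ∧ c * u = u * c ∧ dd * u = u * dd) ∧ u • w = z := by
        simp only [hS, Finset.mem_union, Finset.mem_image] at hz
        rcases hz with ((hz | ⟨w, hw, rfl⟩) | ⟨w, hw, rfl⟩) | ⟨w, hw, rfl⟩
        · exact ⟨z, hz, 1, ⟨by simp, by simp, by simp⟩, one_smul _ _⟩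
        · exact ⟨w, hw, e, ⟨rfl, hec.symm, hde.symm⟩, rfl⟩
        · exact ⟨w, hw, c, ⟨hec, rfl, hdc.symm⟩, rfl⟩
        · exact ⟨w, hw, dd, ⟨hde, hdc, rfl⟩, rfl⟩
      obtain ⟨w, hw, u, ⟨h1, h2, h3⟩, rfl⟩ := hz'
      rintro ((h | h) | h)
      · rw [smul_smul, h1, mul_smul] at h
        exact (hmove e (by tauto) w hw).2 (MulAction.injective u h)
      · rw [smul_smul, h2, mul_smul] at h
        exact (hmove c (by tauto) w hw).2 (MulAction.injective u h)
      · rw [smul_smul, h3, mul_smul] at h
        exact (hmove dd (by tauto) w hw).2 (MulAction.injective u h)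
    have hdz : ∀ z : Ω, dd • z = z → e • z ≠ z ∧ c • z ≠ z := by
      intro z hz
      rw [hdd, mul_smul] at hz
      refine ⟨fun h => ?_, fun h => ?_⟩
      · have hzc : c • z = z := MulAction.injective e (by simp only; rw [hz, h])
        rcases (mem_e z).1 h with rfl | rfl
        · exact (hne _ hzc).1 rfl
        · exact (hne _ hzc).2 rfl
      · rw [h] at hz
        rcases (mem_e z).1 hz with rfl | rfl
        · exact (hne _ h).1 rfl
        · exact (hne _ h).2 rfl
    have hF : (fixF (Ω := Ω) e ∪ fixF c ∪ fixF dd).card = 6 := by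
      rw [Finset.card_union_of_disjoint, Finset.card_union_of_disjoint,
        hfix he.sq (he.ne_one d), hfix hc.sq (hc.ne_one d.mid), hfix hcd.sq (hcd.ne_one d.last)]
      · rw [Finset.disjoint_left]
        intro z hz hz'
        rcases (mem_e z).1 (mem_fixF.1 hz) with rfl | rfl
        · exact (hne _ (mem_fixF.1 hz')).1 rfl
        · exact (hne _ (mem_fixF.1 hz')).2 rfl
      · rw [Finset.disjoint_left]
        intro z hz hz'
        rcases Finset.mem_union.1 hz with hz | hz
        · exact (hdz z (mem_fixF.1 hz')).1 (mem_fixF.1 hz)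
        · exact (hdz z (mem_fixF.1 hz')).2 (mem_fixF.1 hz)
    have hle := Finset.card_le_card hSsub
    rw [hScard, Finset.card_sdiff_of_subset (Finset.subset_univ _), hF, Finset.card_univ] at hle
    omega

end Cfsg.Agent.FourTrans
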