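import Mathlib

/-!
Two commuting involutions normalising a subgroup of odd order: the order formula
`|H| * |C_H(V)|^2 = |C_H(a)| * |C_H(b)| * |C_H(ab)|` and generation by the three centralisers,
by the elementary square-root decomposition.
-/

namespace Cfsg.Agent.FourTrans

variable {G : Type*} [Group G]

/-- Centraliser of an element inside a subgroup. -/
def cent (H : Subgroup G) (a : G) : Subgroup G := H ⊓ Subgroup.centralizer ({a} : Set G)

theorem mem_cent {H : Subgroup G} {a x : G} : x ∈ cent H a ↔ x ∈ H ∧ a * x = x * a := by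
  simp [cent, Subgroup.mem_centralizer_singleton_iff, eq_comm]

theorem cent_le (H : Subgroup G) (a : G) : cent H a ≤ H := inf_le_left

/-- Square root in a group of odd order. -/
noncomputable def sqrtIn (H : Subgroup G) (x : G) : G := x ^ ((Nat.card H + 1) / 2)

theorem sqrtIn_mem {H : Subgroup G} {x : G} (hx : x ∈ H) : sqrtIn H x ∈ H := H.pow_mem hx _

variable [Finite G]

theorem sqrtIn_sq {H : Subgroup G} (ho : Odd (Nat.card H)) {x : G} (hx : x ∈ H) :
    sqrtIn H x * sqrtIn H x = x := by
  have hd : 2 * ((Nat.card H + 1) / 2) = Nat.card H + 1 := by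
    obtain ⟨m, hm⟩ := ho; omega
  have h2 : x ^ Nat.card H = 1 := orderOf_dvd_iff_pow_eq_one.1 (H.orderOf_dvd_natCard hx)
  rw [sqrtIn, ← pow_add, ← two_mul, hd, pow_succ, h2, one_mul]

theorem sqrtIn_unique {H : Subgroup G} (ho : Odd (Nat.card H)) {x y : G} (hy : y ∈ H)
    (h : y * y = x) : sqrtIn H x = y := by
  have hd : 2 * ((Nat.card H + 1) / 2) = Nat.card H + 1 := by
    obtain ⟨m, hm⟩ := ho; omega
  have h2 : y ^ Nat.card H = 1 := orderOf_dvd_iff_pow_eq_one.1 (H.orderOf_dvd_natCard hy)
  rw [sqrtIn, ← h, ← pow_two, ← pow_mul, hd, pow_succ, h2, one_mul]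

omit [Finite G] in
theorem conj_pow_of_invol {a : G} (ha : a * a = 1) (x : G) (m : ℕ) :
    a * x ^ m * a = (a * x * a) ^ m := by
  have hinv : a⁻¹ = a := inv_eq_of_mul_eq_one_right ha
  simpa [hinv] using (conj_pow (i := m) (a := a) (b := x)).symm

omit [Finite G] in
theorem conj_sqrtIn {a : G} (ha : a * a = 1) (H : Subgroup G) (x : G) :
    a * sqrtIn H x * a = sqrtIn H (a * x * a) := conj_pow_of_invol ha x _

omit [Finite G] in
theorem conj_mul {a : G} (ha : a * a = 1) (x y : G) :
    a * (x * y) * a = (a * x * a) * (a * y * a) := by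
  simp only [mul_assoc]
  rw [← mul_assoc a a, ha, one_mul]

omit [Finite G] in
theorem conj_inv {a : G} (ha : a * a = 1) (x : G) : a * x⁻¹ * a = (a * x * a)⁻¹ := by
  have hinv : a⁻¹ = a := inv_eq_of_mul_eq_one_right ha
  simp [mul_assoc, hinv]

omit [Finite G] in
theorem conj_conj {a : G} (ha : a * a = 1) (x : G) : a * (a * x * a) * a = x := by
  simp only [mul_assoc, ha, mul_one]
  rw [← mul_assoc a a, ha, one_mul]

omit [Finite G] in
theorem comm_iff {a : G} (ha : a * a = 1) (x : G) : a * x = x * a ↔ a * x * a = x := by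
  constructor
  · intro h; rw [h, mul_assoc, ha, mul_one]
  · intro h
    calc a * x = a * x * (a * a) := by rw [ha, mul_one]
      _ = (a * x * a) * a := by simp only [mul_assoc]
      _ = x * a := by rw [h]

/-- Elements of `H` inverted by `a`. -/
def invd (H : Subgroup G) (a : G) : Set G := {x | x ∈ H ∧ a * x * a = x⁻¹}

/-- Fixed-point times inverted decomposition. -/
theorem card_eq_cent_mul_invd {H : Subgroup G} (ho : Odd (Nat.card H)) {a : G} (ha : a * a = 1)
    (hn : ∀ x ∈ H, a * x * a ∈ H) :
    Nat.card H = Nat.card (cent H a) * Nat.card (invd H a) := by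
  classical
  let f : cent H a × invd H a → H := fun p => ⟨(p.1 : G) * p.2, H.mul_mem (mem_cent.1 p.1.2).1 p.2.2.1⟩
  have hf : Function.Bijective f := by
    constructor
    · rintro ⟨⟨c, hc⟩, ⟨i, hi⟩⟩ ⟨⟨d, hd⟩, ⟨j, hj⟩⟩ he
      have he' : c * i = d * j := congrArg Subtype.val he
      obtain ⟨hcH, hca⟩ := mem_cent.1 hc
      obtain ⟨hdH, hda⟩ := mem_cent.1 hd
      have h2 : c * i⁻¹ = d * j⁻¹ := by
        have := congrArg (fun t => a * t * a) he'
        simpa only [conj_mul ha, (comm_iff ha c).1 hca, (comm_iff ha d).1 hda, hi.2, hj.2] using this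
      have hij : i * i = j * j := by
        calc i * i = (c * i⁻¹)⁻¹ * (c * i) := by group
          _ = (d * j⁻¹)⁻¹ * (d * j) := by rw [h2, he']
          _ = j * j := by group
      have hI : i = j := (sqrtIn_unique ho hi.1 hij).symm.trans (sqrtIn_unique ho hj.1 rfl)
      subst hI
      have hC : c = d := mul_right_cancel he'
      subst hC
      rfl
    · rintro ⟨h, hh⟩
      set w := (a * h * a)⁻¹ * h with hw
      have hwH : w ∈ H := H.mul_mem (H.inv_mem (hn h hh)) hh
      set i := sqrtIn H w with hi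
      have hiH : i ∈ H := sqrtIn_mem hwH
      have hai : a * i * a = i⁻¹ := by
        symm
        rw [hi, conj_sqrtIn ha]
        symm
        refine sqrtIn_unique ho (H.inv_mem hiH) ?_
        rw [← hi, ← mul_inv_rev, show i * i = w from sqrtIn_sq ho hwH, hw, conj_mul ha,
          conj_inv ha, conj_conj ha, mul_inv_rev, inv_inv]
      have hc : h * i⁻¹ ∈ cent H a := by
        refine mem_cent.2 ⟨H.mul_mem hh (H.inv_mem hiH), (comm_iff ha _).2 ?_⟩
        rw [conj_mul ha, conj_inv ha, hai, inv_inv]
        calc a * h * a * i = a * h * a * (i * i) * i⁻¹ := by group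
          _ = h * i⁻¹ := by rw [show i * i = w from sqrtIn_sq ho hwH, hw]; group
      exact ⟨(⟨h * i⁻¹, hc⟩, ⟨i, hiH, hai⟩), Subtype.ext (by simp [f])⟩
  rw [← Nat.card_eq_of_bijective f hf, Nat.card_prod]

omit [Finite G] in
theorem cent_invariant {H : Subgroup G} {a b : G} (hb : b * b = 1) (hab : a * b = b * a)
    (hn : ∀ x ∈ H, b * x * b ∈ H) : ∀ x ∈ cent H a, b * x * b ∈ cent H a := by
  intro x hx
  obtain ⟨hxH, hxa⟩ := mem_cent.1 hx
  refine mem_cent.2 ⟨hn x hxH, ?_⟩
  calc a * (b * x * b) = (a * b) * x * b := by simp only [mul_assoc]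
    _ = b * (a * x) * b := by rw [hab]; simp only [mul_assoc]
    _ = b * x * (a * b) := by rw [hxa]; simp only [mul_assoc]
    _ = b * x * b * a := by rw [hab]; simp only [mul_assoc]

theorem card_invd_split {H : Subgroup G} (ho : Odd (Nat.card H)) {a b : G} (ha : a * a = 1)
    (hb : b * b = 1) (hab : a * b = b * a)
    (hnb : ∀ x ∈ H, b * x * b ∈ H) :
    Nat.card (invd H a) = Nat.card (invd (cent H b) a) * Nat.card (invd (cent H (a * b)) a) := by
  classical
  have habc : ∀ x : G, a * (b * x * b) * a = b * (a * x * a) * b := fun x => by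
    calc a * (b * x * b) * a = (a * b) * x * (b * a) := by simp only [mul_assoc]
      _ = (b * a) * x * (a * b) := by rw [hab]
      _ = b * (a * x * a) * b := by simp only [mul_assoc]
  -- members of the two factors
  have hP : ∀ p ∈ invd (cent H b) a, p ∈ H ∧ a * p * a = p⁻¹ ∧ b * p * b = p := fun p hp =>
    ⟨(mem_cent.1 hp.1).1, hp.2, (comm_iff hb p).1 (mem_cent.1 hp.1).2⟩
  have hQ : ∀ q ∈ invd (cent H (a * b)) a, q ∈ H ∧ a * q * a = q⁻¹ ∧ b * q * b = q⁻¹ := by
    intro q hq
    obtain ⟨hqH, hqe⟩ := mem_cent.1 hq.1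
    refine ⟨hqH, hq.2, ?_⟩
    have he : a * b * (a * b) = 1 := by
      calc a * b * (a * b) = a * b * (b * a) := by rw [hab]
        _ = a * (b * b) * a := by simp only [mul_assoc]
        _ = 1 := by rw [hb, mul_one, ha]
    have h1 : a * (b * q * b) * a = q := by
      rw [habc]
      calc b * (a * q * a) * b = (b * a) * q * (a * b) := by simp only [mul_assoc]
        _ = (a * b) * q * (a * b) := by rw [hab]
        _ = q := (comm_iff he q).1 hqe
    calc b * q * b = a * (a * (b * q * b) * a) * a := (conj_conj ha _).symm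
      _ = q⁻¹ := by rw [h1, hq.2]
  let f : invd (cent H b) a × invd (cent H (a * b)) a → invd H a := fun z =>
    ⟨(z.1 : G) * z.2 * z.1, H.mul_mem (H.mul_mem (hP _ z.1.2).1 (hQ _ z.2.2).1) (hP _ z.1.2).1, by
      rw [conj_mul ha, conj_mul ha, (hP _ z.1.2).2.1, (hQ _ z.2.2).2.1]; group⟩
  -- the equation characterising the square of the first factor
  have key : ∀ {X i : G}, X ∈ H → i ∈ H → X * i⁻¹ * X = b * i * b →
      X = sqrtIn H (b * i * b * i⁻¹) * i := by
    intro X i hX hi he
    have h1 : (X * i⁻¹) * (X * i⁻¹) = b * i * b * i⁻¹ := by rw [← he]; group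
    rw [sqrtIn_unique ho (H.mul_mem hX (H.inv_mem hi)) h1]; group
  have hsq : ∀ z, ((z : invd (cent H b) a × invd (cent H (a * b)) a).1 : G) * z.1
      * ((f z : G))⁻¹ * ((z.1 : G) * z.1) = b * (f z : G) * b := by
    intro z
    simp only [f]
    rw [conj_mul hb, conj_mul hb, (hP _ z.1.2).2.2, (hQ _ z.2.2).2.2]; group
  have hf : Function.Bijective f := by
    constructor
    · intro z w he
      have he' : (f z : G) = f w := congrArg Subtype.val he
      have h1 := key (H.mul_mem (hP _ z.1.2).1 (hP _ z.1.2).1) (f z).2.1 (hsq z)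
      have h2 := key (H.mul_mem (hP _ w.1.2).1 (hP _ w.1.2).1) (f w).2.1 (hsq w)
      rw [← he', ← h1] at h2
      have hp : (z.1 : G) = w.1 :=
        (sqrtIn_unique ho (hP _ z.1.2).1 rfl).symm.trans (sqrtIn_unique ho (hP _ w.1.2).1 h2)
      have hq : (z.2 : G) = w.2 := by
        simp only [f, hp] at he'
        exact mul_left_cancel (mul_right_cancel he')
      exact Prod.ext (Subtype.ext hp) (Subtype.ext hq)
    · rintro ⟨i, hiH, hai⟩
      set t := b * i * b * i⁻¹ with ht
      have htH : t ∈ H := H.mul_mem (hnb i hiH) (H.inv_mem hiH)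
      set X := sqrtIn H t * i with hX
      have hXH : X ∈ H := H.mul_mem (sqrtIn_mem htH) hiH
      have hXe : X * i⁻¹ * X = b * i * b := by
        calc X * i⁻¹ * X = sqrtIn H t * sqrtIn H t * i := by rw [hX]; group
          _ = b * i * b := by rw [sqrtIn_sq ho htH, ht]; group
      have hbX : b * X * b = X := by
        have hXH' : b * X * b ∈ H := hnb X hXH
        have h1 : (b * X * b) * (b * i * b)⁻¹ * (b * X * b) = i := by
          have := congrArg (fun u => b * u * b) hXe
          rw [conj_conj hb i, conj_mul hb (X * i⁻¹) X, conj_mul hb X i⁻¹, conj_inv hb i] at this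
          exact this
        have h2 : (b * X * b) * i⁻¹ * (b * X * b) = b * i * b := by
          calc (b * X * b) * i⁻¹ * (b * X * b)
              = (b * X * b) * ((b * X * b) * (b * i * b)⁻¹ * (b * X * b))⁻¹ * (b * X * b) := by
                rw [h1]
            _ = b * i * b := by group
        exact (key hXH' hiH h2).trans (key hXH hiH hXe).symm
      have haX : a * X * a = X⁻¹ := by
        have hXH' : (a * X * a) ∈ H → X⁻¹ = a * X * a := fun hm => by
          have h1 : (a * X * a) * i * (a * X * a) = (b * i * b)⁻¹ := by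
            have := congrArg (fun u => a * u * a) hXe
            rw [conj_mul ha (X * i⁻¹) X, conj_mul ha X i⁻¹, conj_inv ha i, hai, inv_inv, habc,
              hai, conj_inv hb] at this
            exact this
          have h2 : (a * X * a)⁻¹ * i⁻¹ * (a * X * a)⁻¹ = b * i * b := by
            rw [← inv_inj]
            simpa [mul_assoc] using h1
          rw [← inv_inj, inv_inv]
          exact (key hXH hiH hXe).trans (key (H.inv_mem hm) hiH h2).symm
        have haXH : a * X * a ∈ H := by
          have h3 : a * t * a = (b * i * b)⁻¹ * i := by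
            rw [ht, conj_mul ha, habc, conj_inv ha, hai, conj_inv hb, inv_inv]
          rw [hX, conj_mul ha, conj_sqrtIn ha, hai, h3]
          exact H.mul_mem (sqrtIn_mem (H.mul_mem (H.inv_mem (hnb i hiH)) hiH)) (H.inv_mem hiH)
        exact (hXH' haXH).symm
      set p := sqrtIn H X with hp
      have hpH : p ∈ H := sqrtIn_mem hXH
      have hpp : p * p = X := sqrtIn_sq ho hXH
      have hbp : b * p * b = p := by rw [hp, conj_sqrtIn hb, hbX]
      have hap : a * p * a = p⁻¹ := by
        rw [hp, conj_sqrtIn ha, haX]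
        refine sqrtIn_unique ho (H.inv_mem hpH) ?_
        rw [← mul_inv_rev, hpp]
      set q := p⁻¹ * i * p⁻¹ with hq
      have hqH : q ∈ H := H.mul_mem (H.mul_mem (H.inv_mem hpH) hiH) (H.inv_mem hpH)
      have haq : a * q * a = q⁻¹ := by
        rw [hq, conj_mul ha, conj_mul ha, conj_inv ha, hap, hai]; group
      have hbq : b * q * b = q⁻¹ := by
        calc b * q * b = p⁻¹ * (X * i⁻¹ * X) * p⁻¹ := by
              rw [hq, conj_mul hb, conj_mul hb, conj_inv hb, hbp, hXe]
          _ = q⁻¹ := by rw [← hpp, hq]; group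
      have he : a * b * (a * b) = 1 := by
        calc a * b * (a * b) = a * b * (b * a) := by rw [hab]
          _ = a * (b * b) * a := by simp only [mul_assoc]
          _ = 1 := by rw [hb, mul_one, ha]
      have hqe : q ∈ cent H (a * b) := by
        refine mem_cent.2 ⟨hqH, (comm_iff he q).2 ?_⟩
        calc a * b * q * (a * b) = a * b * q * (b * a) := by rw [hab]
          _ = a * (b * q * b) * a := by simp only [mul_assoc]
          _ = q := by rw [hbq, conj_inv ha, haq, inv_inv]
      refine ⟨(⟨p, mem_cent.2 ⟨hpH, (comm_iff hb p).2 hbp⟩, hap⟩, ⟨q, hqe, haq⟩), Subtype.ext ?_⟩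
      change p * q * p = i
      rw [hq]; group
  rw [← Nat.card_eq_of_bijective f hf, Nat.card_prod]

omit [Finite G] in
theorem cent_cent_eq (H : Subgroup G) (a b : G) (hab : a * b = b * a) :
    cent (cent H (a * b)) a = cent (cent H b) a := by
  ext x
  simp only [mem_cent]
  constructor
  · rintro ⟨⟨h, he⟩, hax⟩
    refine ⟨⟨h, ?_⟩, hax⟩
    have h1 : a * (b * x) = a * (x * b) := by
      calc a * (b * x) = a * b * x := (mul_assoc _ _ _).symm
        _ = x * a * b := by rw [he, mul_assoc]
        _ = a * (x * b) := by rw [← hax, mul_assoc]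
    exact mul_left_cancel h1
  · rintro ⟨⟨h, hbx⟩, hax⟩
    refine ⟨⟨h, ?_⟩, hax⟩
    calc a * b * x = a * (x * b) := by rw [mul_assoc, hbx]
      _ = x * (a * b) := by rw [← mul_assoc, hax, mul_assoc]

/-- **Order formula** for a four-group acting on a group of odd order. -/
theorem card_four_group {H : Subgroup G} (ho : Odd (Nat.card H)) {a b : G} (ha : a * a = 1)
    (hb : b * b = 1) (hab : a * b = b * a) (hna : ∀ x ∈ H, a * x * a ∈ H)
    (hnb : ∀ x ∈ H, b * x * b ∈ H) :
    Nat.card H * Nat.card (cent (cent H b) a) ^ 2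
      = Nat.card (cent H a) * Nat.card (cent H b) * Nat.card (cent H (a * b)) := by
  have he : a * (a * b) = a * b * a := by rw [mul_assoc a b a, hab]
  have oddC : ∀ x : G, Odd (Nat.card (cent H x)) := fun x =>
    ho.of_dvd_nat (Subgroup.card_dvd_of_le (cent_le H x))
  have hB := card_eq_cent_mul_invd (oddC b) ha (cent_invariant ha hab.symm hna)
  have hE := card_eq_cent_mul_invd (oddC (a * b)) ha (cent_invariant ha he.symm hna)
  rw [cent_cent_eq H a b hab] at hE
  rw [card_eq_cent_mul_invd ho ha hna, card_invd_split ho ha hb hab hnb, hB, hE]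
  ring

/-- The three centralisers generate. -/
theorem le_of_cent_le {H : Subgroup G} (ho : Odd (Nat.card H)) {a b : G} (ha : a * a = 1)
    (hb : b * b = 1) (hab : a * b = b * a) (hna : ∀ x ∈ H, a * x * a ∈ H)
    (hnb : ∀ x ∈ H, b * x * b ∈ H) {K : Subgroup G} (h1 : cent H a ≤ K) (h2 : cent H b ≤ K)
    (h3 : cent H (a * b) ≤ K) : H ≤ K := by
  have hle : cent H a ⊔ cent H b ⊔ cent H (a * b) ≤ K := sup_le (sup_le h1 h2) h3
  set M := cent H a ⊔ cent H b ⊔ cent H (a * b) with hM
  have hMH : M ≤ H := sup_le (sup_le (cent_le _ _) (cent_le _ _)) (cent_le _ _)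
  have hoM : Odd (Nat.card M) := ho.of_dvd_nat (Subgroup.card_dvd_of_le hMH)
  have hcent : ∀ x, cent H x ≤ M → cent M x = cent H x := fun x hx => le_antisymm
    (fun y hy => mem_cent.2 ⟨hMH (mem_cent.1 hy).1, (mem_cent.1 hy).2⟩)
    (fun y hy => mem_cent.2 ⟨hx hy, (mem_cent.1 hy).2⟩)
  have hV : cent (cent M b) a = cent (cent H b) a := by rw [hcent b (le_sup_right.trans le_sup_left)]
  have hinvM : ∀ c : G, c * c = 1 → a * c = c * a → b * c = c * b →
      (∀ x ∈ H, c * x * c ∈ H) → ∀ x ∈ M, c * x * c ∈ M := by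
    intro c hc hac hbc hnc
    have hinv : c⁻¹ = c := inv_eq_of_mul_eq_one_right hc
    have hmap : M.map (MulAut.conj c).toMonoidHom ≤ M := by
      rw [hM, Subgroup.map_sup, Subgroup.map_sup]
      have one : ∀ x : G, x * c = c * x → (cent H x).map (MulAut.conj c).toMonoidHom ≤ cent H x := by
        intro x hx y hy
        obtain ⟨z, hz, rfl⟩ := hy
        simpa [hinv] using cent_invariant hc hx hnc z hz
      refine sup_le_sup (sup_le_sup (one a hac) (one b hbc)) (one (a * b) ?_)
      rw [mul_assoc, hbc, ← mul_assoc, hac, mul_assoc]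
    intro x hx
    have h := hmap (Subgroup.mem_map_of_mem _ hx)
    simpa [hinv] using h
  have hMa : ∀ x ∈ M, a * x * a ∈ M := hinvM a ha rfl hab.symm hna
  have hMb : ∀ x ∈ M, b * x * b ∈ M := hinvM b hb hab rfl hnb
  have e1 := card_four_group hoM ha hb hab hMa hMb
  have e2 := card_four_group ho ha hb hab hna hnb
  rw [hV, hcent a (le_sup_left.trans le_sup_left), hcent b (le_sup_right.trans le_sup_left),
    hcent (a * b) le_sup_right, ← e2] at e1
  have hpos : 0 < Nat.card (cent (cent H b) a) ^ 2 := pow_pos Nat.card_pos _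
  have hc := Nat.eq_of_mul_eq_mul_right hpos e1
  exact (Subgroup.eq_of_le_of_card_ge hMH hc.ge).symm.le.trans hle

end Cfsg.Agent.FourTrans
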