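import Cfsg.Agent.Lib.FourTrans.Even

/-!
Hall's theorem, involutions with three fixed points.
-/

namespace Cfsg.Agent.FourTrans

variable {G : Type*} [Group G] {Ω : Type*} [MulAction G Ω]

theorem odd_triple {t : G} (ht : Odd (orderOf t)) {u v w : Ω} (huv : u ≠ v) (huw : u ≠ w)
    (h : t • u = u) (hv : t • v = u ∨ t • v = v ∨ t • v = w)
    (hw : t • w = u ∨ t • w = v ∨ t • w = w) : t • v = v ∧ t • w = w := by
  have hv' : t • v = v ∨ t • v = w := by
    rcases hv with hv | hv
    · exact absurd (MulAction.injective t (hv.trans h.symm)) huv.symm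
    · exact hv
  have hw' : t • w = v ∨ t • w = w := by
    rcases hw with hw | hw
    · exact absurd (MulAction.injective t (hw.trans h.symm)) huw.symm
    · exact hw
  exact ⟨odd_fix_pair ht hv' hw', odd_fix_pair ht hw'.symm hv'.symm⟩

theorem cycle_three {t : G} (ht : Odd (orderOf t)) {u v w : Ω}
    (hu : t • u = u ∨ t • u = v ∨ t • u = w) (hv : t • v = u ∨ t • v = v ∨ t • v = w)
    (hw : t • w = u ∨ t • w = v ∨ t • w = w) (huv : u ≠ v) (huw : u ≠ w) (hvw : v ≠ w)
    (hm : t • u ≠ u) : (t • u = v ∧ t • v = w) ∨ (t • u = w ∧ t • w = v) := by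
  rcases hu with h | h | h
  · exact absurd h hm
  · refine Or.inl ⟨h, ?_⟩
    rcases hv with h' | h' | h'
    · exact absurd (odd_fix_pair ht (Or.inr h) (Or.inl h')) hm
    · exact absurd (MulAction.injective t (h.trans h'.symm)) huv
    · exact h'
  · refine Or.inr ⟨h, ?_⟩
    rcases hw with h' | h' | h'
    · exact absurd (odd_fix_pair ht (Or.inr h) (Or.inl h')) hm
    · exact h'
    · exact absurd (MulAction.injective t (h.trans h'.symm)) huw

variable [Finite G] [Fintype Ω] [DecidableEq Ω]

omit [Finite G] in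
theorem third_fixed {v : G} {u w : Ω} (huw : u ≠ w) (hu : v • u = u) (hw : v • w = w)
    (hc : (fixF (Ω := Ω) v).card = 3) :
    ∃ z : Ω, z ≠ u ∧ z ≠ w ∧ v • z = z ∧ ∀ q : Ω, v • q = q → q = u ∨ q = w ∨ q = z := by
  obtain ⟨z, hz, hz'⟩ := Finset.exists_mem_notMem_of_card_lt_card (s := {u, w}) (t := fixF v)
    (by rw [hc, Finset.card_pair huw]; omega)
  simp only [Finset.mem_insert, Finset.mem_singleton, not_or] at hz'
  refine ⟨z, hz'.1, hz'.2, mem_fixF.1 hz, fun q hq => ?_⟩
  have hsub : ({u, w, z} : Finset Ω) ⊆ fixF v := by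
    intro r hr
    simp only [Finset.mem_insert, Finset.mem_singleton] at hr
    rcases hr with rfl | rfl | rfl
    · exact mem_fixF.2 hu
    · exact mem_fixF.2 hw
    · exact hz
  have h3 : ({u, w, z} : Finset Ω).card = 3 :=
    Finset.card_eq_three.2 ⟨u, w, z, huw, Ne.symm hz'.1, Ne.symm hz'.2, rfl⟩
  have he := Finset.eq_of_subset_of_card_le hsub (by rw [hc, h3])
  have := mem_fixF.2 hq
  rw [← he] at this
  simpa using this

omit [Finite G] in
/-- An odd-order element centralising `v` with three fixed points and fixing one, fixes all. -/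
theorem fix_of_triple {v t : G} (ho : Odd (orderOf t)) (htv : v * t = t * v) {u w z : Ω}
    (huw : u ≠ w) (huz : u ≠ z) (hw : v • w = w) (hz : v • z = z)
    (hall : ∀ q : Ω, v • q = q → q = u ∨ q = w ∨ q = z) (ht : t • u = u) :
    t • w = w ∧ t • z = z :=
  odd_triple ho huw huz ht (hall _ (fixF_comm htv hw)) (hall _ (fixF_comm htv hz))

/-- **Hall, odd case.** -/
theorem Hyp.odd_case (H : Hyp G Ω) (hn : 6 ≤ Fintype.card Ω) {a b : G} {i j k l : Ω}
    (d : D4 i j k l) (ha : Single a i j k l) (hb : Single b k l i j) (hab : a * b = b * a)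
    (hf : (fixF (Ω := Ω) a).card = 3) :
    (∃ o : Ω, o ≠ i ∧ o ≠ j ∧ o ≠ k ∧ o ≠ l ∧ a • o = o ∧
      ∀ z : Ω, z ≠ i → z ≠ j → z ≠ k → z ≠ l → ∃ t ∈ fix4 G i j k l, t • o = z) ∨
    (Fintype.card Ω = 11 ∧ ∃ R : Finset Ω, R.card ≤ 4 ∧
      ∀ t ∈ fix4 G i j k l, ∀ z : Ω, z ∉ R → t • z = z) ∨
    (Fintype.card Ω = 23 ∧ ∃ O : Finset Ω, O.card = 9 ∧
      (∀ z ∈ O, ∀ w ∈ O, ∃ t ∈ fix4 G i j k l, t • z = w) ∧
      (∀ t ∈ fix4 G i j k l, ∀ z ∈ O, t • z ∈ O) ∧
      (∀ t ∈ fix4 G i j k l, (∀ z ∈ O, t • z = z) → ∀ z : Ω, t • z = z)) := by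
  classical
  set K := fix4 G i j k l with hKdef
  have hK : Odd (Nat.card K) := H.odd d
  have he : Double (a * b) i j k l := double_of_cfg ha hb hab
  set e := a * b with hedef
  have hea : e * a = a * e := by rw [hedef, mul_assoc a b a, ← hab]
  have heb : e * b = b * e := by rw [hedef, ← mul_assoc, ← hab]
  have hfix : ∀ {t : G}, t * t = 1 → t ≠ 1 → (fixF (Ω := Ω) t).card = 3 := fun ht ht1 => by
    rw [(H.card_fixF_eq hn d ha ht ht1).1, hf]
  -- the common fixed point `o`
  obtain ⟨o, hoi, hoj, hao, hA3⟩ := third_fixed d.ij ha.fi ha.fj hf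
  obtain ⟨o', ho'k, ho'l, hbo', hB3⟩ := third_fixed d.kl hb.fi hb.fj
    (hfix hb.sq (ne_one_of_move hb.sk d.ij))
  have hao' : a • o' = o' := by
    rcases hB3 _ (fixF_comm hab.symm hbo') with h | h | h
    · exact absurd (MulAction.injective a (h.trans ha.sl.symm)) ho'l
    · exact absurd (MulAction.injective a (h.trans ha.sk.symm)) ho'k
    · exact h
  have hoo : o' = o := by
    rcases hA3 o' hao' with h | h | h
    · rw [h, hb.sk] at hbo'; exact absurd hbo'.symm d.ij
    · rw [h, hb.sl] at hbo'; exact absurd hbo' d.ij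
    · exact h
  subst hoo
  have heo : e • o' = o' := by rw [hedef, mul_smul, hbo', hao']
  obtain ⟨x, hxo, hex⟩ : ∃ x : Ω, x ≠ o' ∧ e • x = x := by
    obtain ⟨x, hx, hx'⟩ := Finset.exists_mem_notMem_of_card_lt_card (s := {o'})
      (t := fixF (Ω := Ω) e) (by rw [hfix he.sq (he.ne_one d), Finset.card_singleton]; omega)
    exact ⟨x, by simpa using hx', mem_fixF.1 hx⟩
  obtain ⟨y, hyo, hyx, hey, hE3⟩ := third_fixed (Ne.symm hxo) heo hex (hfix he.sq (he.ne_one d))
  obtain ⟨nxi, nxj, nxk, nxl⟩ := moved_of_double d he hex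
  obtain ⟨nyi, nyj, nyk, nyl⟩ := moved_of_double d he hey
  have hax : a • x = y := by
    rcases hE3 _ (fixF_comm hea hex) with h | h | h
    · exact absurd (MulAction.injective a (h.trans hao.symm)) hxo
    · rcases hA3 x h with h' | h' | h'
      exacts [absurd h' nxi, absurd h' nxj, absurd h' hxo]
    · exact h
  have hbx : b • x = y := by
    calc b • x = a • (e • x) := by rw [hedef, ← mul_smul, ← mul_assoc, ha.sq, one_mul]
      _ = y := by rw [hex, hax]
  have hby : b • y = x := smul_swap hb.sq hbx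
  have hay : a • y = x := smul_swap ha.sq hax
  have dklxy : D4 k l x y := ⟨d.kl, nxk.symm, nyk.symm, nxl.symm, nyl.symm, hyx.symm⟩
  have Da : Double a k l x y := ⟨ha.sq, ha.sk, hax⟩
  obtain ⟨g, g1, g2, g3, g4, hga⟩ := H.double_conj d dklxy he Da
  have hag : ∀ t, t ∈ cent (fix4 G k l x y) a → ∃ t₀ ∈ cent K e, g * t₀ * g⁻¹ = t := by
    intro t ht
    refine ⟨g⁻¹ * t * g, ?_, by group⟩
    rw [← conj_mem_cent g (conj_mem_fix4 g1 g2 g3 g4), hga]
    simpa [mul_assoc] using ht
  have hgo : a • (g • o') = g • o' := by rw [← hga, mul_smul, mul_smul, inv_smul_smul, heo]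
  by_cases hJ : ∀ t ∈ cent K e, t • o' = o'
  · right
    -- the stabiliser fixes `o`
    have hKo : ∀ t ∈ K, t • o' = o' := by
      have hle : K ≤ MulAction.stabilizer G o' := by
        refine le_of_cent_le hK ha.sq hb.sq hab ha.normalise hb.normalise' ?_ ?_ ?_
        · intro t ht
          obtain ⟨htK, hta⟩ := mem_cent.1 ht
          exact (fix_of_triple (odd_orderOf hK htK) hta d.ij hoi.symm ha.fj hao hA3
            (mem_fix4.1 htK).1).2
        · intro t ht
          obtain ⟨htK, htb⟩ := mem_cent.1 ht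
          exact (fix_of_triple (odd_orderOf hK htK) htb d.kl ho'k.symm hb.fj hbo' hB3
            (mem_fix4.1 htK).2.2.1).2
        · exact fun t ht => hJ t ht
      exact fun t ht => hle ht
    have dij : D4 i j x y := ⟨d.ij, nxi.symm, nyi.symm, nxj.symm, nyj.symm, hyx.symm⟩
    have hK'o : ∀ t ∈ fix4 G i j x y, t • o' = o' := by
      obtain ⟨h, h1, h2, h3, h4, hha⟩ := H.single_conj d dij ha ⟨ha.sq, ha.fi, ha.fj, hax⟩
      have hho : h • o' = o' := by
        have hah : a • (h • o') = h • o' := by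
          conv_lhs => rw [← hha, mul_smul, mul_smul, inv_smul_smul, hao]
        rcases hA3 _ hah with e' | e' | e'
        · exact absurd (MulAction.injective h (e'.trans h1.symm)) hoi
        · exact absurd (MulAction.injective h (e'.trans h2.symm)) hoj
        · exact e'
      intro t ht
      have hmem : h⁻¹ * t * h ∈ K := by
        rw [← conj_mem_fix4 h1 h2 h3 h4]; simpa [mul_assoc] using ht
      have := hKo _ hmem
      rw [mul_smul, mul_smul, hho, inv_smul_eq_iff, hho] at this
      exact this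
    -- `x` and `y` have the same stabiliser
    have hxy_fix : ∀ t ∈ K, t • x = x → t • y = y := by
      intro t ht htx
      have d5 : D4 i j o' x := ⟨d.ij, hoi.symm, nxi.symm, hoj.symm, nxj.symm, hxo.symm⟩
      have hle : fix4 G i j x y ≤ fix4 G i j o' x := fun u hu => by
        obtain ⟨u1, u2, u3, -⟩ := mem_fix4.1 hu
        exact mem_fix4.2 ⟨u1, u2, hK'o u hu, u3⟩
      have heq := Subgroup.eq_of_le_of_card_ge hle (H.card_fix4 dij d5).le
      obtain ⟨t1, t2, -, -⟩ := mem_fix4.1 ht
      have : t ∈ fix4 G i j x y := heq ▸ mem_fix4.2 ⟨t1, t2, hKo t ht, htx⟩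
      exact (mem_fix4.1 this).2.2.2
    set X := K ⊓ MulAction.stabilizer G x with hXdef
    have memX : ∀ t, t ∈ X ↔ t ∈ K ∧ t • x = x := fun t => Iff.rfl
    have hXa : ∀ t ∈ X, a * t * a ∈ X := fun t ht => by
      obtain ⟨htK, htx⟩ := (memX t).1 ht
      refine (memX _).2 ⟨ha.normalise t htK, ?_⟩
      rw [mul_smul, mul_smul, hax, hxy_fix t htK htx, hay]
    have hXb : ∀ t ∈ X, b * t * b ∈ X := fun t ht => by
      obtain ⟨htK, htx⟩ := (memX t).1 ht
      refine (memX _).2 ⟨hb.normalise' t htK, ?_⟩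
      rw [mul_smul, mul_smul, hbx, hxy_fix t htK htx, hby]
    have hoX : Odd (Nat.card X) := hK.of_dvd_nat (Subgroup.card_dvd_of_le inf_le_left)
    have cXa : cent X a = cent (fix4 G k l x y) a := by
      ext t
      simp only [mem_cent]
      constructor
      · rintro ⟨ht, hta⟩
        obtain ⟨htK, htx⟩ := (memX t).1 ht
        obtain ⟨-, -, t3, t4⟩ := mem_fix4.1 htK
        exact ⟨mem_fix4.2 ⟨t3, t4, htx, hxy_fix t htK htx⟩, hta⟩
      · rintro ⟨ht, hta⟩
        obtain ⟨t3, t4, t5, -⟩ := mem_fix4.1 ht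
        obtain ⟨t₀, ht₀, rfl⟩ := hag t (mem_cent.2 ⟨ht, hta⟩)
        set u := g * t₀ * g⁻¹ with hu
        have huo : u • (g • o') = g • o' := by
          rw [hu, mul_smul, mul_smul, inv_smul_smul, hJ t₀ ht₀]
        have huo' : Odd (orderOf u) := odd_orderOf (H.odd dklxy) ht
        have hall : u • i = i ∧ u • j = j := by
          rcases hA3 _ hgo with q | q | q <;> rw [q] at huo
          · exact ⟨huo, (fix_of_triple huo' hta d.ij hoi.symm ha.fj hao hA3 huo).1⟩
          · exact ⟨(fix_of_triple huo' hta d.ij.symm hoj.symm ha.fi hao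
              (fun r hr => by rcases hA3 r hr with h | h | h <;> tauto) huo).1, huo⟩
          · exact fix_of_triple huo' hta hoi hoj ha.fi ha.fj
              (fun r hr => by rcases hA3 r hr with h | h | h <;> tauto) huo
        exact ⟨(memX _).2 ⟨mem_fix4.2 ⟨hall.1, hall.2, t3, t4⟩, t5⟩, hta⟩
    have cXb : cent X b = cent (fix4 G i j x y) b := by
      ext t
      simp only [mem_cent]
      constructor
      · rintro ⟨ht, htb⟩
        obtain ⟨htK, htx⟩ := (memX t).1 ht
        obtain ⟨t1, t2, -, -⟩ := mem_fix4.1 htK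
        exact ⟨mem_fix4.2 ⟨t1, t2, htx, hxy_fix t htK htx⟩, htb⟩
      · rintro ⟨ht, htb⟩
        obtain ⟨t1, t2, t3, -⟩ := mem_fix4.1 ht
        have h := fix_of_triple (odd_orderOf (H.odd dij) ht) htb ho'k ho'l hb.fi hb.fj
          (fun r hr => by rcases hB3 r hr with h | h | h <;> tauto) (hK'o t ht)
        exact ⟨(memX _).2 ⟨mem_fix4.2 ⟨t1, t2, h.1, h.2⟩, t3⟩, htb⟩
    have cXe : cent X e = cent K e := by
      ext t
      simp only [mem_cent]
      refine ⟨fun ⟨ht, hte⟩ => ⟨((memX t).1 ht).1, hte⟩, fun ⟨ht, hte⟩ => ⟨(memX t).2 ⟨ht, ?_⟩, hte⟩⟩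
      exact (fix_of_triple (odd_orderOf hK ht) hte (Ne.symm hxo) (Ne.symm hyo) hex hey hE3
        (hKo t ht)).1
    have cXV : cent (cent X b) a = cent (cent K b) a := by
      ext t
      simp only [mem_cent]
      refine ⟨fun ⟨⟨ht, htb⟩, hta⟩ => ⟨⟨((memX t).1 ht).1, htb⟩, hta⟩, fun ⟨⟨ht, htb⟩, hta⟩ => ?_⟩
      have hte : e * t = t * e := by rw [hedef, mul_assoc, htb, ← mul_assoc, hta, mul_assoc]
      exact ⟨⟨(memX t).2 ⟨ht, (fix_of_triple (odd_orderOf hK ht) hte (Ne.symm hxo) (Ne.symm hyo)
        hex hey hE3 (hKo t ht)).1⟩, htb⟩, hta⟩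
    have hBa : Nat.card (cent X a) = Nat.card (cent K e) := by
      rw [cXa, H.double_card d dklxy he Da]
    have hBb : Nat.card (cent X b) = Nat.card (cent K e) := by
      rw [cXb, H.double_card d dij he ⟨hb.sq, hb.sk, hbx⟩]
    obtain ⟨s, hs⟩ : Nat.card (cent K e) ∣ Nat.card (cent K a) := by
      rw [← hBa]
      exact Subgroup.card_dvd_of_le (fun t ht =>
        mem_cent.2 ⟨((memX t).1 (mem_cent.1 ht).1).1, (mem_cent.1 ht).2⟩)
    have hsodd : Odd s := by
      have hoA : Odd (Nat.card (cent K a)) := hK.of_dvd_nat (Subgroup.card_dvd_of_le (cent_le _ _))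
      exact hoA.of_dvd_nat ⟨_, by rw [hs, mul_comm]⟩
    have hn5 : Fintype.card Ω = 5 + 6 * s := by
      have hc := H.count hn d ha he
      rw [hf, ← hKdef, hs] at hc
      have : (Fintype.card Ω - 3 - 2) = 6 * s := by
        apply Nat.eq_of_mul_eq_mul_right (Nat.card_pos (α := cent K e))
        rw [← hc]; ring
      omega
    -- the orbit of `x`
    set O := (MulAction.orbit K x).toFinset with hO
    have hOmem : ∀ z, z ∈ O ↔ ∃ t ∈ K, t • x = z := by
      intro z
      rw [hO, Set.mem_toFinset]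
      constructor
      · rintro ⟨⟨t, ht⟩, h⟩; exact ⟨t, ht, h⟩
      · rintro ⟨t, ht, h⟩; exact ⟨⟨t, ht⟩, h⟩
    have hKX : Nat.card K = O.card * Nat.card X := by
      have hst : (MulAction.stabilizer K x).map K.subtype = X := by
        ext t
        simp only [Subgroup.mem_map, Subgroup.coe_subtype, memX]
        constructor
        · rintro ⟨⟨t, ht⟩, h, rfl⟩; exact ⟨ht, h⟩
        · rintro ⟨ht, h⟩; exact ⟨⟨t, ht⟩, h, rfl⟩
      rw [← Subgroup.card_mul_index (MulAction.stabilizer K x), MulAction.index_stabilizer,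
        Set.ncard_eq_toFinset_card', ← hO, ← hst,
        Subgroup.card_map_of_injective K.subtype_injective, mul_comm]
    have hOc : O.card = s * s := by
      have f1 := card_four_group hK ha.sq hb.sq hab ha.normalise hb.normalise'
      have f2 := card_four_group hoX ha.sq hb.sq hab hXa hXb
      have hAb : Nat.card (cent K b) = Nat.card (cent K a) := by
        rw [← H.single_card d d.swap ha hb, fix4_perm_swap]
      rw [← hedef, hAb, hs, hKX] at f1
      rw [← hedef, hBa, hBb, cXe, cXV] at f2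
      apply Nat.eq_of_mul_eq_mul_right
        (Nat.mul_pos (Nat.card_pos (α := X)) (pow_pos (Nat.card_pos (α := cent (cent K b) a)) 2))
      rw [← mul_assoc, f1, f2]; ring
    -- the two orbits are disjoint
    have hdisj : ∀ z ∈ O, a • z ∉ O := by
      intro z hz hz'
      obtain ⟨t, ht, rfl⟩ := (hOmem z).1 hz
      obtain ⟨u, hu, hua⟩ := (hOmem _).1 hz'
      set w := a * t with hw
      set q := u⁻¹ * w with hq
      have hqx : q • x = x := by
        rw [hq, mul_smul, hw, mul_smul, ← hua, inv_smul_smul]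
      obtain ⟨t1, t2, t3, t4⟩ := mem_fix4.1 ht
      obtain ⟨u1, u2, u3, u4⟩ := mem_fix4.1 (K.inv_mem hu)
      have q1 : q • i = i := by rw [hq, mul_smul, hw, mul_smul, t1, ha.fi, u1]
      have q2 : q • j = j := by rw [hq, mul_smul, hw, mul_smul, t2, ha.fj, u2]
      have q3 : q • k = l := by rw [hq, mul_smul, hw, mul_smul, t3, ha.sk, u4]
      have q4 : q • l = k := by rw [hq, mul_smul, hw, mul_smul, t4, ha.sl, u3]
      have q5 : q • o' = o' := by
        rw [hq, mul_smul, hw, mul_smul, hKo t ht, hao, hKo _ (K.inv_mem hu)]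
      have hqq : q * q ∈ K := mem_fix4.2 (by simp [mul_smul, q1, q2, q3, q4])
      have hm := odd_orderOf hK hqq
      set a' := q ^ orderOf (q * q)
      have ha'2 : a' * a' = 1 := by
        rw [← (Commute.refl q).mul_pow]; exact pow_orderOf_eq_one _
      have act : ∀ r : Ω, q • (q • r) = r → a' • r = q • r := fun r hr =>
        pow_odd_act (by rw [mul_smul, hr]) hm
      have ha'1 : a' ≠ 1 := ne_one_of_move (show a' • k = l by rw [act k (by rw [q3, q4]), q3]) d.kl
      have hsub : ({i, j, o', x} : Finset Ω) ⊆ fixF a' := by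
        intro r hr
        simp only [Finset.mem_insert, Finset.mem_singleton] at hr
        refine mem_fixF.2 ?_
        rcases hr with rfl | rfl | rfl | rfl
        · rw [act _ (by rw [q1, q1]), q1]
        · rw [act _ (by rw [q2, q2]), q2]
        · rw [act _ (by rw [q5, q5]), q5]
        · rw [act _ (by rw [hqx, hqx]), hqx]
      have h4 : ({i, j, o', x} : Finset Ω).card = 4 := by
        simp [Finset.card_insert_of_notMem, d.ij, hoi.symm, nxi.symm, hoj.symm, nxj.symm, hxo.symm]
      have := (Finset.card_le_card hsub).trans (H.card_fixF_le ha'2 ha'1)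
      omega
    have hout : ∀ z ∈ O, z ∉ ({i, j, k, l, o'} : Finset Ω) := by
      intro z hz hz'
      obtain ⟨t, ht, rfl⟩ := (hOmem z).1 hz
      obtain ⟨t1, t2, t3, t4⟩ := mem_fix4.1 ht
      simp only [Finset.mem_insert, Finset.mem_singleton] at hz'
      rcases hz' with h | h | h | h | h
      · exact nxi (MulAction.injective t (h.trans t1.symm))
      · exact nxj (MulAction.injective t (h.trans t2.symm))
      · exact nxk (MulAction.injective t (h.trans t3.symm))
      · exact nxl (MulAction.injective t (h.trans t4.symm))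
      · exact hxo (MulAction.injective t (h.trans (hKo t ht).symm))
    set F : Finset Ω := {i, j, k, l, o'} with hF
    have hFc : F.card = 5 := by
      simp [hF, Finset.card_insert_of_notMem, d.ij, d.ik, d.il, d.jk, d.jl, d.kl, hoi.symm,
        hoj.symm, ho'k.symm, ho'l.symm]
    have hUc : (F ∪ O ∪ O.image (a • ·)).card = 5 + 2 * (s * s) := by
      rw [Finset.card_union_of_disjoint, Finset.card_union_of_disjoint,
        Finset.card_image_of_injective _ (MulAction.injective a), hFc, hOc]
      · ring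
      · exact Finset.disjoint_right.2 hout
      · rw [Finset.disjoint_left]
        intro z hz hz'
        obtain ⟨w, hw, rfl⟩ := Finset.mem_image.1 hz'
        rcases Finset.mem_union.1 hz with hz | hz
        · have hfix5 : a • (a • w) ∈ F := by
            simp only [hF, Finset.mem_insert, Finset.mem_singleton] at hz ⊢
            rcases hz with q | q | q | q | q <;> rw [q] <;>
              simp [ha.fi, ha.fj, ha.sk, ha.sl, hao]
          rw [smul_smul, ha.sq, one_smul] at hfix5
          exact hout w hw hfix5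
        · exact hdisj w hw hz
    have hle : 2 * (s * s) ≤ 6 * s := by
      have := Finset.card_le_univ (F ∪ O ∪ O.image (a • ·))
      omega
    have hs3 : s = 1 ∨ s = 3 := by
      have hs4 : s ≤ 3 := by
        by_contra h
        have : 4 * s ≤ s * s := Nat.mul_le_mul_right s (not_le.1 h)
        omega
      obtain ⟨r, rfl⟩ := hsodd
      omega
    rcases hs3 with rfl | rfl
    · left
      refine ⟨hn5, Finset.univ \ (F ∪ O ∪ O.image (a • ·)), ?_, ?_⟩
      · rw [Finset.card_sdiff_of_subset (Finset.subset_univ _), Finset.card_univ, hUc, hn5]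
      · intro t ht z hz
        simp only [Finset.mem_sdiff, Finset.mem_univ, true_and, not_not] at hz
        have hxO : x ∈ O := (hOmem x).2 ⟨1, K.one_mem, one_smul _ _⟩
        have honly : ∀ w ∈ O, w = x := fun w hw =>
          Finset.card_le_one.1 hOc.le w hw x hxO
        have htx : t • x = x := honly _ ((hOmem _).2 ⟨t, ht, rfl⟩)
        obtain ⟨t1, t2, t3, t4⟩ := mem_fix4.1 ht
        simp only [hF, Finset.mem_union, Finset.mem_insert, Finset.mem_singleton,
          Finset.mem_image] at hz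
        rcases hz with ((rfl | rfl | rfl | rfl | rfl) | hz) | ⟨w, hw, rfl⟩
        exacts [t1, t2, t3, t4, hKo t ht, by rw [honly z hz, htx],
          by rw [honly w hw, hax, hxy_fix t ht htx]]
    · right
      refine ⟨hn5, O, hOc, ?_, ?_, ?_⟩
      · intro z hz w hw
        obtain ⟨t, ht, rfl⟩ := (hOmem z).1 hz
        obtain ⟨u, hu, rfl⟩ := (hOmem w).1 hw
        exact ⟨u * t⁻¹, K.mul_mem hu (K.inv_mem ht), by rw [mul_smul, inv_smul_smul]⟩
      · intro t ht z hz
        obtain ⟨u, hu, rfl⟩ := (hOmem z).1 hz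
        exact (hOmem _).2 ⟨t * u, K.mul_mem ht hu, mul_smul _ _ _⟩
      · intro t ht hfixO z
        have huniv : F ∪ O ∪ O.image (a • ·) = Finset.univ := Finset.eq_univ_of_card _ (by omega)
        have hz : z ∈ F ∪ O ∪ O.image (a • ·) := huniv ▸ Finset.mem_univ z
        simp only [hF, Finset.mem_union, Finset.mem_insert, Finset.mem_singleton,
          Finset.mem_image] at hz
        obtain ⟨t1, t2, t3, t4⟩ := mem_fix4.1 ht
        rcases hz with ((rfl | rfl | rfl | rfl | rfl) | hz) | ⟨w, hw, rfl⟩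
        exacts [t1, t2, t3, t4, hKo t ht, hfixO z hz, by
          obtain ⟨u, hu, rfl⟩ := (hOmem w).1 hw
          set v := a * u * a with hv
          have hvK : v ∈ K := ha.normalise u hu
          have hz' : a • (u • x) = v • y := by rw [hv, mul_smul, mul_smul, hay]
          have h1 : (v⁻¹ * t * v) • x = x := by
            rw [mul_smul, mul_smul, hfixO (v • x) ((hOmem _).2 ⟨v, hvK, rfl⟩), inv_smul_smul]
          have h2 := hxy_fix _ (K.mul_mem (K.mul_mem (K.inv_mem hvK) ht) hvK) h1
          rw [mul_smul, mul_smul, inv_smul_eq_iff] at h2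
          rw [hz', h2]]
  · -- the stabiliser moves `o`: it is transitive outside the four points
    left
    simp only [not_forall] at hJ
    obtain ⟨t₀, ht₀, hmove⟩ := hJ
    refine ⟨o', hoi, hoj, ho'k, ho'l, hao, ?_⟩
    obtain ⟨ht₀K, ht₀e⟩ := mem_cent.1 ht₀
    have hxy_orb : ∀ w, w = x ∨ w = y → ∃ t ∈ K, t • o' = w := by
      have h2 : (t₀ * t₀) ∈ K := K.mul_mem ht₀K ht₀K
      rcases cycle_three (odd_orderOf hK ht₀K) (hE3 _ (fixF_comm ht₀e heo))
        (hE3 _ (fixF_comm ht₀e hex)) (hE3 _ (fixF_comm ht₀e hey)) (Ne.symm hxo) (Ne.symm hyo)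
        hyx.symm hmove with ⟨h, h'⟩ | ⟨h, h'⟩ <;> intro w hw <;> rcases hw with rfl | rfl
      exacts [⟨t₀, ht₀K, h⟩, ⟨_, h2, by rw [mul_smul, h, h']⟩,
        ⟨_, h2, by rw [mul_smul, h, h']⟩, ⟨t₀, ht₀K, h⟩]
    -- an element of `C(a)` fixing `k l x y` and cycling `i j o`
    set u := g * t₀ * g⁻¹ with hu
    have hucent : u ∈ cent (fix4 G k l x y) a := by
      have := (conj_mem_cent g (conj_mem_fix4 g1 g2 g3 g4) e t₀).2 ht₀
      rwa [hga] at this
    obtain ⟨huK, hua⟩ := mem_cent.1 hucent
    have huo : Odd (orderOf u) := odd_orderOf (H.odd dklxy) huK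
    have humove : u • o' ≠ o' := by
      intro h
      obtain ⟨h1, h2⟩ := fix_of_triple huo hua hoi hoj ha.fi ha.fj
        (fun r hr => by rcases hA3 r hr with q | q | q <;> tauto) h
      have hfixg : u • (g • o') = g • o' := by
        rcases hA3 _ hgo with q | q | q <;> rw [q] <;> assumption
      rw [hu, mul_smul, mul_smul, inv_smul_smul] at hfixg
      exact hmove (MulAction.injective g hfixg)
    have hreach : ∀ w : Ω, a • w = w →
        ∃ r ∈ fix4 G k l x y, a * r = r * a ∧ r • o' = w := by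
      have h2 : u * u ∈ cent (fix4 G k l x y) a := Subgroup.mul_mem _ hucent hucent
      obtain ⟨hu2, hu2a⟩ := mem_cent.1 h2
      intro w hw
      rcases cycle_three huo
        (by rcases hA3 _ (fixF_comm hua hao) with q | q | q <;> tauto)
        (by rcases hA3 _ (fixF_comm hua ha.fi) with q | q | q <;> tauto)
        (by rcases hA3 _ (fixF_comm hua ha.fj) with q | q | q <;> tauto)
        hoi hoj d.ij humove with ⟨h, h'⟩ | ⟨h, h'⟩ <;> rcases hA3 w hw with rfl | rfl | rfl
      exacts [⟨u, huK, hua, h⟩, ⟨_, hu2, hu2a, by rw [mul_smul, h, h']⟩,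
        ⟨1, Subgroup.one_mem _, by simp, one_smul _ _⟩,
        ⟨_, hu2, hu2a, by rw [mul_smul, h, h']⟩, ⟨u, huK, hua, h⟩,
        ⟨1, Subgroup.one_mem _, by simp, one_smul _ _⟩]
    intro z zi zj zk zl
    by_cases hzo : z = o'
    · exact ⟨1, K.one_mem, by rw [one_smul, hzo]⟩
    have hmz : a • z ≠ z := fun h => by rcases hA3 z h with q | q | q <;> tauto
    obtain ⟨d', D'⟩ := exists_double ha.sq ha.sk d.kl hmz zk zl
    obtain ⟨h, h1, h2, h3, -, hha⟩ := H.double_conj dklxy d' Da D'
    have hca : a * h = h * a := by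
      calc a * h = (h * a * h⁻¹) * h := by rw [hha]
        _ = h * a := inv_mul_cancel_right _ _
    have hw : a • (h⁻¹ • o') = h⁻¹ • o' :=
      fixF_comm (Commute.inv_right (show Commute a h from hca)).eq hao
    obtain ⟨r, hr, hra, hro⟩ := hreach _ hw
    obtain ⟨r1, r2, r3, r4⟩ := mem_fix4.1 hr
    set h' := h * r with hh'
    have hca' : a * h' = h' * a := (Commute.mul_right (show Commute a h from hca) hra).eq
    have hk' : h' • k = k := by rw [hh', mul_smul, r1, h1]
    have hl' : h' • l = l := by rw [hh', mul_smul, r2, h2]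
    have ho'' : h' • o' = o' := by rw [hh', mul_smul, hro, smul_inv_smul]
    have hx'' : h' • x = z := by rw [hh', mul_smul, r3, h3]
    rcases hA3 _ (fixF_comm hca' ha.fi) with q | q | q
    · have hj : h' • j = j := by
        rcases hA3 _ (fixF_comm hca' ha.fj) with q' | q' | q'
        · exact absurd (MulAction.injective h' (q.trans q'.symm)) d.ij
        · exact q'
        · exact absurd (MulAction.injective h' (ho''.trans q'.symm)) hoj
      have hmem : h' ∈ K := mem_fix4.2 ⟨q, hj, hk', hl'⟩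
      obtain ⟨t, ht, hto⟩ := hxy_orb x (Or.inl rfl)
      exact ⟨h' * t, K.mul_mem hmem ht, by rw [mul_smul, hto, hx'']⟩
    · have hj : h' • j = i := by
        rcases hA3 _ (fixF_comm hca' ha.fj) with q' | q' | q'
        · exact q'
        · exact absurd (MulAction.injective h' (q.trans q'.symm)) d.ij
        · exact absurd (MulAction.injective h' (ho''.trans q'.symm)) hoj
      have hmem : h' * b ∈ K := mem_fix4.2 ⟨by rw [mul_smul, hb.sk, hj], by rw [mul_smul, hb.sl, q],
        by rw [mul_smul, hb.fi, hk'], by rw [mul_smul, hb.fj, hl']⟩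
      obtain ⟨t, ht, hto⟩ := hxy_orb y (Or.inr rfl)
      refine ⟨h' * b * t, K.mul_mem hmem ht, ?_⟩
      rw [mul_smul, hto, mul_smul, hby, hx'']
    · exact absurd (MulAction.injective h' (ho''.trans q.symm)) hoi

end Cfsg.Agent.FourTrans
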