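import Cfsg.Agent.Lib.FourTrans.Odd

/-!
The exceptional degrees: in degree eleven the stabiliser is trivial and degree twenty-three
does not occur; conclusion of Hall's theorem.
-/

namespace Cfsg.Agent.FourTrans

variable {G : Type*} [Group G] {Ω : Type*} [MulAction G Ω] [Finite G]

section orbits

omit [Finite G] in
theorem pow_smul_injOn {t : G} {q : ℕ} (hq : q.Prime) (ht : t ^ q = 1) {z : Ω} (hz : t • z ≠ z)
    {r r' : ℕ} (hr : r < q) (hr' : r' < q) (h : t ^ r • z = t ^ r' • z) : r = r' := by
  have key : ∀ m : ℕ, 0 < m → m < q → t ^ m • z ≠ z := by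
    intro m h0 hm he
    have hcop : Nat.Coprime m q :=
      ((Nat.Prime.coprime_iff_not_dvd hq).2 (Nat.not_dvd_of_pos_of_lt h0 hm)).symm
    have h1 : t ^ m ∈ MulAction.stabilizer G z := he
    have h2 : t ^ q ∈ MulAction.stabilizer G z := by rw [ht]; exact one_mem _
    have h3 : t ∈ MulAction.stabilizer G z := by
      obtain ⟨u, v, huv⟩ : ∃ u v : ℤ, (m : ℤ) * u + (q : ℤ) * v = 1 := by
        refine ⟨m.gcdA q, m.gcdB q, ?_⟩
        rw [← Nat.gcd_eq_gcd_ab, hcop]; rfl
      have e : t = (t ^ m) ^ u * (t ^ q) ^ v := by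
        rw [← zpow_natCast t m, ← zpow_natCast t q, ← zpow_mul, ← zpow_mul, ← zpow_add, huv,
          zpow_one]
      rw [e]
      exact mul_mem (zpow_mem h1 _) (zpow_mem h2 _)
    exact hz h3
  rcases le_total r r' with hle | hle
  · rcases eq_or_lt_of_le hle with h' | h'
    · exact h'
    · exfalso
      have : t ^ (r' - r) • z = z := by
        apply MulAction.injective (t ^ r)
        simp only
        rw [smul_smul, ← pow_add, Nat.add_sub_cancel' hle, h]
      exact key _ (by omega) (by omega) this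
  · rcases eq_or_lt_of_le hle with h' | h'
    · exact h'.symm
    · exfalso
      have : t ^ (r - r') • z = z := by
        apply MulAction.injective (t ^ r')
        simp only
        rw [smul_smul, ← pow_add, Nat.add_sub_cancel' hle, h]
      exact key _ (by omega) (by omega) this

variable [Fintype Ω] [DecidableEq Ω]

/-- The first `q` translates. -/
def pOrbit (t : G) (q : ℕ) (z : Ω) : Finset Ω := (Finset.range q).image (fun r => t ^ r • z)

omit [Finite G] in
theorem card_pOrbit {t : G} {q : ℕ} (hq : q.Prime) (ht : t ^ q = 1) {z : Ω} (hz : t • z ≠ z) :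
    (pOrbit t q z).card = q := by
  rw [pOrbit, Finset.card_image_of_injOn, Finset.card_range]
  intro r hr r' hr' h
  exact pow_smul_injOn hq ht hz (Finset.mem_range.1 hr) (Finset.mem_range.1 hr') h

omit [Finite G] in
theorem mem_pOrbit_moved {t : G} {q : ℕ} {z w : Ω} (hz : t • z ≠ z) (hw : w ∈ pOrbit t q z) :
    t • w ≠ w := by
  obtain ⟨r, -, rfl⟩ := Finset.mem_image.1 hw
  intro h
  rw [smul_smul, ← pow_succ', pow_succ, mul_smul] at h
  exact hz (MulAction.injective _ h)

omit [Finite G] in
theorem pOrbit_disjoint {t : G} {q : ℕ} (ht : t ^ q = 1) {z w : Ω} (hw : w ∉ pOrbit t q z)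
    (hq : 0 < q) : Disjoint (pOrbit t q z) (pOrbit t q w) := by
  rw [Finset.disjoint_left]
  intro v hv hv'
  obtain ⟨r, hr, rfl⟩ := Finset.mem_image.1 hv
  obtain ⟨s, hs, hsv⟩ := Finset.mem_image.1 hv'
  refine hw (Finset.mem_image.2 ⟨(q - s + r) % q, Finset.mem_range.2 (Nat.mod_lt _ hq), ?_⟩)
  have hs' := Finset.mem_range.1 hs
  rw [← pow_eq_pow_mod _ ht, pow_add, mul_smul, ← hsv, smul_smul, ← pow_add,
    Nat.sub_add_cancel hs'.le, ht, one_smul]

end orbits

variable [FaithfulSMul G Ω] [Fintype Ω] [DecidableEq Ω]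

/-- In degree eleven the stabiliser is trivial. -/
theorem Hyp.eleven (H : Hyp G Ω) (hn : Fintype.card Ω = 11) {i j k l : Ω} (d : D4 i j k l)
    {R : Finset Ω} (hR : R.card ≤ 4) (hfix : ∀ t ∈ fix4 G i j k l, ∀ z : Ω, z ∉ R → t • z = z) :
    Nat.card (fix4 G i j k l) = 1 := by
  classical
  set K := fix4 G i j k l
  by_contra hne
  obtain ⟨q, hq, hqd⟩ := Nat.exists_prime_and_dvd hne
  have : Fact q.Prime := ⟨hq⟩
  obtain ⟨⟨t, ht⟩, hto⟩ := exists_prime_orderOf_dvd_card' q hqd
  rw [Subgroup.orderOf_mk] at hto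
  have htq : t ^ q = 1 := hto ▸ pow_orderOf_eq_one t
  have ht1 : t ≠ 1 := fun h => hq.ne_one (by rw [← hto, h, orderOf_one])
  have hqodd : Odd q := hto ▸ odd_orderOf (H.odd d) ht
  obtain ⟨z, hz⟩ : ∃ z : Ω, t • z ≠ z := by
    by_contra h
    simp only [not_exists, not_not] at h
    exact ht1 (eq_of_smul_eq_smul fun z : Ω => by rw [h z, one_smul])
  have hsubR : ∀ w : Ω, t • w ≠ w → w ∈ R := fun w hw => by
    by_contra h
    exact hw (hfix t ht w h)
  have horb : pOrbit t q z ⊆ R := fun w hw => hsubR w (mem_pOrbit_moved hz hw)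
  have hq4 := (Finset.card_le_card horb).trans hR
  rw [card_pOrbit hq htq hz] at hq4
  have hq3 : q = 3 := by
    have := hq.two_le
    obtain ⟨r, hr⟩ := hqodd
    omega
  subst hq3
  have honly : ∀ w : Ω, t • w ≠ w → w ∈ pOrbit t 3 z := by
    intro w hw
    by_contra h
    have hdis := pOrbit_disjoint htq h (by omega : 0 < 3)
    have hsub : pOrbit t 3 z ∪ pOrbit t 3 w ⊆ R :=
      Finset.union_subset horb fun v hv => hsubR v (mem_pOrbit_moved hw hv)
    have := (Finset.card_le_card hsub).trans hR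
    rw [Finset.card_union_of_disjoint hdis, card_pOrbit hq htq hz, card_pOrbit hq htq hw] at this
    omega
  set v := t • z with hv
  set w := t • v with hw
  have hwz : t • w = z := by
    rw [hw, hv, smul_smul, smul_smul, ← pow_three', htq, one_smul]
  have hzv : z ≠ v := fun h => hz h.symm
  have hvw : v ≠ w := fun h => hzv (MulAction.injective t (by simp only; rw [← hv, ← hw, ← h]))
  have hzw : z ≠ w := fun h => by
    apply hvw
    calc v = t • z := hv
      _ = t • w := by rw [← h]
      _ = z := hwz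
      _ = w := h
  have hfix3 : ∀ p : Ω, p ≠ z → p ≠ v → p ≠ w → t • p = p := by
    intro p h1 h2 h3
    by_contra h
    obtain ⟨r, hr, hrp⟩ := Finset.mem_image.1 (honly p h)
    have : r < 3 := Finset.mem_range.1 hr
    interval_cases r
    · exact h1 (by rw [← hrp, pow_zero, one_smul])
    · exact h2 (by rw [← hrp, pow_one])
    · exact h3 (by rw [← hrp, pow_two, mul_smul])
  -- two further points
  have hbig : 2 ≤ (Finset.univ \ ({z, v, w} : Finset Ω)).card := by
    rw [Finset.card_sdiff_of_subset (Finset.subset_univ _), Finset.card_univ, hn]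
    have : ({z, v, w} : Finset Ω).card ≤ 3 := Finset.card_le_three
    omega
  obtain ⟨z', hz', o'', ho'', hzo⟩ := Finset.one_lt_card.1 hbig
  simp only [Finset.mem_sdiff, Finset.mem_univ, true_and, Finset.mem_insert,
    Finset.mem_singleton, not_or] at hz' ho''
  obtain ⟨g, g1, g2, g3, -⟩ := H.trans (i := z) (j := v) (k := w) (l := o'')
    ⟨hzv, hzw, Ne.symm ho''.1, hvw, Ne.symm ho''.2.1, Ne.symm ho''.2.2⟩
    (i' := z) (j' := v) (k' := z') (l' := w)
    ⟨hzv, Ne.symm hz'.1, hzw, Ne.symm hz'.2.1, hvw, hz'.2.2⟩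
  set t' := g * t * g⁻¹ with ht'
  have a1 : t' • z = v := by rw [← g1, ht', mul_smul, mul_smul, inv_smul_smul, ← hv, g2]
  have a2 : t' • v = z' := by rw [← g2, ht', mul_smul, mul_smul, inv_smul_smul, ← hw, g3]
  have a3 : t' • z' = z := by rw [← g3, ht', mul_smul, mul_smul, inv_smul_smul, hwz, g1]
  have a4 : ∀ p : Ω, p ≠ z → p ≠ v → p ≠ z' → t' • p = p := by
    intro p h1 h2 h3
    rw [ht', mul_smul, mul_smul, hfix3 (g⁻¹ • p)
      (fun h => h1 (by rw [← g1, ← h, smul_inv_smul]))
      (fun h => h2 (by rw [← g2, ← h, smul_inv_smul]))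
      (fun h => h3 (by rw [← g3, ← h, smul_inv_smul])), smul_inv_smul]
  set s := t * t' with hs
  have tz' : t • z' = z' := hfix3 z' hz'.1 hz'.2.1 hz'.2.2
  have b1 : s • z = w := by rw [hs, mul_smul, a1]
  have b2 : s • v = z' := by rw [hs, mul_smul, a2, tz']
  have b3 : s • z' = v := by rw [hs, mul_smul, a3]
  have b4 : s • w = z := by
    rw [hs, mul_smul, a4 w hzw.symm hvw.symm (Ne.symm hz'.2.2), hwz]
  have b5 : ∀ p : Ω, p ∉ ({z, v, w, z'} : Finset Ω) → s • p = p := by
    intro p hp
    simp only [Finset.mem_insert, Finset.mem_singleton, not_or] at hp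
    rw [hs, mul_smul, a4 p hp.1 hp.2.1 hp.2.2.2, hfix3 p hp.1 hp.2.1 hp.2.2.1]
  have hs2 : s * s = 1 := eq_of_smul_eq_smul fun p : Ω => by
    rw [one_smul, mul_smul]
    by_cases hp : p ∈ ({z, v, w, z'} : Finset Ω)
    · simp only [Finset.mem_insert, Finset.mem_singleton] at hp
      rcases hp with rfl | rfl | rfl | rfl
      exacts [by rw [b1, b4], by rw [b2, b3], by rw [b4, b1], by rw [b3, b2]]
    · rw [b5 p hp, b5 p hp]
  have hle := H.card_fixF_le hs2 (ne_one_of_move b1 hzw)
  have hsub : Finset.univ \ ({z, v, w, z'} : Finset Ω) ⊆ fixF s := fun p hp =>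
    mem_fixF.2 (b5 p (Finset.mem_sdiff.1 hp).2)
  have h7 := Finset.card_le_card hsub
  rw [Finset.card_sdiff_of_subset (Finset.subset_univ _), Finset.card_univ, hn] at h7
  have : ({z, v, w, z'} : Finset Ω).card ≤ 4 := Finset.card_le_four
  omega

omit [FaithfulSMul G Ω] [DecidableEq Ω] in
theorem Hyp.card_group (H : Hyp G Ω) {i j k l : Ω} (d : D4 i j k l) :
    Nat.card G = (Fintype.card Ω).descFactorial 4 * Nat.card (fix4 G i j k l) := by
  classical
  have hinj : Function.Injective (![i, j, k, l] : Fin 4 → Ω) := by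
    intro p q h
    fin_cases p <;> fin_cases q <;>
      first
        | rfl
        | exact absurd h (by simp [d.ij, d.ik, d.il, d.jk, d.jl, d.kl, d.ij.symm, d.ik.symm,
            d.il.symm, d.jk.symm, d.jl.symm, d.kl.symm])
  set x : Fin 4 ↪ Ω := ⟨![i, j, k, l], hinj⟩
  have hst : MulAction.stabilizer G x = fix4 G i j k l := by
    ext g
    rw [MulAction.mem_stabilizer_iff, mem_fix4]
    constructor
    · intro h
      have h' := fun p => DFunLike.congr_fun h p
      exact ⟨h' 0, h' 1, h' 2, h' 3⟩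
    · rintro ⟨h1, h2, h3, h4⟩
      ext p
      fin_cases p
      exacts [h1, h2, h3, h4]
  have horb : MulAction.orbit G x = Set.univ := by
    refine Set.eq_univ_of_forall fun y => ?_
    have dy : D4 (y 0) (y 1) (y 2) (y 3) :=
      ⟨y.injective.ne (by decide), y.injective.ne (by decide), y.injective.ne (by decide),
        y.injective.ne (by decide), y.injective.ne (by decide), y.injective.ne (by decide)⟩
    obtain ⟨g, g1, g2, g3, g4⟩ := H.trans d dy
    refine ⟨g, ?_⟩
    ext p
    fin_cases p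
    exacts [g1, g2, g3, g4]
  rw [← Subgroup.card_mul_index (MulAction.stabilizer G x), MulAction.index_stabilizer, horb,
    Set.ncard_univ, Nat.card_eq_fintype_card (α := Fin 4 ↪ Ω), Fintype.card_embedding_eq,
    Fintype.card_fin, hst, mul_comm]

/-- Degree twenty-three is impossible. -/
theorem Hyp.not_twentythree (H : Hyp G Ω) (hn : Fintype.card Ω = 23) {a : G} {i j k l : Ω}
    (d : D4 i j k l) (ha : Single a i j k l) (hf : (fixF (Ω := Ω) a).card = 3) {O : Finset Ω}
    (hO : O.card = 9) (htr : ∀ z ∈ O, ∀ w ∈ O, ∃ t ∈ fix4 G i j k l, t • z = w)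
    (hinv : ∀ t ∈ fix4 G i j k l, ∀ z ∈ O, t • z ∈ O)
    (hfaith : ∀ t ∈ fix4 G i j k l, (∀ z ∈ O, t • z = z) → ∀ z : Ω, t • z = z) : False := by
  classical
  set K := fix4 G i j k l with hKdef
  have hK : Odd (Nat.card K) := H.odd d
  -- order of the stabiliser
  let φ : K →* Equiv.Perm O :=
    { toFun := fun t =>
        { toFun := fun z => ⟨(t : G) • (z : Ω), hinv t t.2 z z.2⟩
          invFun := fun z => ⟨(t : G)⁻¹ • (z : Ω), hinv _ (K.inv_mem t.2) z z.2⟩
          left_inv := fun z => Subtype.ext (inv_smul_smul _ _)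
          right_inv := fun z => Subtype.ext (smul_inv_smul _ _) }
      map_one' := Equiv.ext fun z => Subtype.ext (by simp)
      map_mul' := fun s t => Equiv.ext fun z => Subtype.ext (by simp [mul_smul]) }
  have hφ : Function.Injective φ := by
    rw [injective_iff_map_eq_one]
    intro t ht
    refine Subtype.ext (eq_of_smul_eq_smul fun z : Ω => ?_)
    rw [Subgroup.coe_one, one_smul]
    exact hfaith t t.2 (fun w hw => congrArg Subtype.val (DFunLike.congr_fun ht ⟨w, hw⟩)) z
  have h9 : Nat.card K ∣ Nat.factorial 9 := by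
    have h := Subgroup.card_dvd_of_injective φ hφ
    rwa [Nat.card_perm, Nat.card_eq_fintype_card (α := O), Fintype.card_coe, hO] at h
  have h2835 : Nat.card K ∣ 2835 := by
    have h128 : Nat.Coprime (Nat.card K) 128 := by
      rw [show (128 : ℕ) = 2 ^ 7 by norm_num]
      exact Nat.Coprime.pow_right _ (Nat.coprime_two_right.2 hK)
    apply h128.dvd_of_dvd_mul_left
    exact h9.trans (dvd_of_eq (by norm_num [Nat.factorial]))
  obtain ⟨z₀, hz₀⟩ := Finset.card_pos.1 (by omega : 0 < O.card)
  have h9dvd : 9 ∣ Nat.card K := by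
    have horb : MulAction.orbit K z₀ = (O : Set Ω) := by
      ext z
      constructor
      · rintro ⟨⟨t, ht⟩, rfl⟩; exact hinv t ht z₀ hz₀
      · intro hz
        obtain ⟨t, ht, h⟩ := htr z₀ hz₀ z hz
        exact ⟨⟨t, ht⟩, h⟩
    have := MulAction.index_stabilizer K z₀
    rw [horb, Set.ncard_coe_finset, hO] at this
    exact this ▸ Subgroup.index_dvd_card _
  -- the Sylow 23-normaliser
  have : Fact (Nat.Prime 23) := ⟨by norm_num⟩
  have hG : Nat.card G = 23 * (9240 * Nat.card K) := by
    rw [H.card_group d, hn, ← hKdef]; norm_num [Nat.descFactorial]; ring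
  let S : Sylow 23 G := default
  have hS : Nat.card (S : Subgroup G) = 23 := by
    rw [Sylow.card_eq_multiplicity, hG]
    have h23 : ¬ 23 ∣ 9240 * Nat.card K := by
      intro h
      rcases (Nat.Prime.dvd_mul (by norm_num)).1 h with h | h
      · norm_num at h
      · exact absurd (h.trans h2835) (by norm_num)
    rw [Nat.factorization_mul (by norm_num) (by positivity [Nat.card_pos (α := K)])]
    simp [Nat.factorization_eq_zero_of_not_dvd h23, Nat.Prime.factorization_self (by norm_num : Nat.Prime 23)]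
  have hScyc : IsCyclic (S : Subgroup G) := isCyclic_of_prime_card hS
  obtain ⟨⟨c, hc⟩, hcgen⟩ := hScyc.exists_generator
  have hc23 : c ^ 23 = 1 := by
    have := pow_card_eq_one' (x := (⟨c, hc⟩ : (S : Subgroup G)))
    rw [hS] at this
    exact congrArg Subtype.val this
  have hpowers : ∀ t ∈ (S : Subgroup G), ∃ r : ℤ, c ^ r = t := by
    intro t ht
    obtain ⟨r, hr⟩ := Subgroup.mem_zpowers_iff.1 (hcgen ⟨t, ht⟩)
    exact ⟨r, congrArg Subtype.val hr⟩
  have hc1 : c ≠ 1 := by
    intro h
    have hbot : (S : Subgroup G) = ⊥ := (Subgroup.eq_bot_iff_forall _).2 fun t ht => by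
      obtain ⟨r, rfl⟩ := hpowers t ht
      rw [h, one_zpow]
    rw [hbot, Subgroup.card_bot] at hS
    omega
  obtain ⟨z, hz⟩ : ∃ z : Ω, c • z ≠ z := by
    by_contra h
    simp only [not_exists, not_not] at h
    exact hc1 (eq_of_smul_eq_smul fun z : Ω => by rw [h z, one_smul])
  have hall : ∀ w : Ω, ∃ r < 23, c ^ r • z = w := by
    intro w
    have huniv : pOrbit c 23 z = Finset.univ :=
      Finset.eq_univ_of_card _ (by rw [card_pOrbit (by norm_num) hc23 hz, hn])
    obtain ⟨r, hr, h⟩ := Finset.mem_image.1 (huniv ▸ Finset.mem_univ w)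
    exact ⟨r, Finset.mem_range.1 hr, h⟩
  set N := Subgroup.normalizer ((S : Subgroup G) : Set G) with hN
  have hcN : ∀ r : ℕ, c ^ r ∈ N := fun r => Subgroup.le_normalizer ((S : Subgroup G).pow_mem hc r)
  have hNcard : Nat.card N = 23 * Nat.card (MulAction.stabilizer N z) := by
    have horb : MulAction.orbit N z = Set.univ := Set.eq_univ_of_forall fun w => by
      obtain ⟨r, -, h⟩ := hall w
      exact ⟨⟨c ^ r, hcN r⟩, h⟩
    rw [← Subgroup.card_mul_index (MulAction.stabilizer N z), MulAction.index_stabilizer, horb,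
      Set.ncard_univ, Nat.card_eq_fintype_card (α := Ω), hn, mul_comm]
  let ψ : MulAction.stabilizer N z →* MulAut (S : Subgroup G) :=
    (Subgroup.normalizerMonoidHom (S : Subgroup G)).comp (MulAction.stabilizer N z).subtype
  have hcomm_fix : ∀ t : G, t • z = z → t * c = c * t → t = 1 := by
    intro t ht hcomm
    refine eq_of_smul_eq_smul fun w : Ω => ?_
    obtain ⟨r, -, rfl⟩ := hall w
    rw [one_smul, smul_smul, (Commute.pow_right (show Commute t c from hcomm) r).eq, mul_smul, ht]
  have hψ : Function.Injective ψ := by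
    rw [injective_iff_map_eq_one]
    rintro ⟨⟨t, htN⟩, htz⟩ h
    refine Subtype.ext (Subtype.ext (hcomm_fix t htz ?_))
    have := congrArg Subtype.val (DFunLike.congr_fun h ⟨c, hc⟩)
    simp only [ψ, MonoidHom.comp_apply, Subgroup.normalizerMonoidHom_apply_apply_coe,
      MulAut.one_apply, Subgroup.coe_subtype] at this
    calc t * c = t * c * t⁻¹ * t := (inv_mul_cancel_right _ _).symm
      _ = c * t := by rw [this]
  set e := Nat.card (MulAction.stabilizer N z) with he
  have he22 : e ∣ 22 := by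
    have h := Subgroup.card_dvd_of_injective ψ hψ
    have hA : Nat.card (MulAut (S : Subgroup G)) = 22 := by
      rw [IsCyclic.card_mulAut, hS, Nat.totient_prime (by norm_num)]
    rwa [hA] at h
  have heodd : Odd e := by
    by_contra h
    have : Fact (Nat.Prime 2) := ⟨Nat.prime_two⟩
    obtain ⟨⟨⟨t, htN⟩, htz⟩, hto⟩ := exists_prime_orderOf_dvd_card'
      (G := MulAction.stabilizer N z) 2 (Nat.not_odd_iff_even.1 h).two_dvd
    rw [Subgroup.orderOf_mk, Subgroup.orderOf_mk] at hto
    have ht2 : t * t = 1 := by rw [← pow_two, ← hto]; exact pow_orderOf_eq_one t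
    have ht1 : t ≠ 1 := fun h => by rw [h, orderOf_one] at hto; omega
    replace htz : t • z = z := htz
    have htc : t * c * t ∈ (S : Subgroup G) := by
      have := (Subgroup.mem_normalizer_iff.1 htN c).1 hc
      rwa [invol_inv ht2] at this
    obtain ⟨r, hr⟩ := hpowers _ htc
    have hprod : t * c * t * c = 1 := by
      obtain ⟨m, hm⟩ := hpowers _ ((S : Subgroup G).mul_mem htc hc)
      have hcomm : t * c * t * c = c * (t * c * t) := by rw [← hr]; exact (Commute.zpow_self c r).eq
      have hfixed : t * (t * c * t * c) * t = t * c * t * c := by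
        conv_rhs => rw [hcomm]
        rw [conj_mul ht2, conj_conj ht2]
      by_contra hne
      have hm0 : ¬ (23 : ℤ) ∣ m := by
        rintro ⟨q, rfl⟩
        apply hne
        rw [← hm, zpow_mul, zpow_ofNat, hc23, one_zpow]
      obtain ⟨u, v, huv⟩ : ∃ u v : ℤ, u * m + v * 23 = 1 := by
        have hp : Prime (23 : ℤ) := Nat.prime_iff_prime_int.1 (by norm_num)
        exact ((hp.coprime_iff_not_dvd).2 hm0).symm
      have hcm : Commute t (c ^ m) := by
        rw [hm]; exact (comm_iff ht2 _).2 hfixed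
      have hc' : c = (c ^ m) ^ u := by
        calc c = c ^ (m * u + (23 : ℤ) * v) := by
              rw [mul_comm m u, mul_comm (23 : ℤ) v, huv, zpow_one]
          _ = (c ^ m) ^ u := by
            rw [zpow_add, zpow_mul, zpow_mul, zpow_ofNat c 23, hc23, one_zpow, mul_one]
      refine ht1 (hcomm_fix t htz ?_)
      rw [hc']; exact (hcm.zpow_right u).eq
    have hinvc : t * c * t = c⁻¹ := eq_inv_of_mul_eq_one_left hprod
    have hsub : fixF (Ω := Ω) t ⊆ {z} := by
      intro w hw
      obtain ⟨r, hr, rfl⟩ := hall w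
      have h1 := mem_fixF.1 hw
      have h2 : t * c ^ r = (c⁻¹) ^ r * t := by
        calc t * c ^ r = t * c ^ r * (t * t) := by rw [ht2, mul_one]
          _ = (t * c ^ r * t) * t := by simp only [mul_assoc]
          _ = (c⁻¹) ^ r * t := by rw [conj_pow_of_invol ht2, hinvc]
      rw [smul_smul, h2, mul_smul, htz, inv_pow, inv_smul_eq_iff, smul_smul, ← pow_add] at h1
      have h3 : c ^ ((r + r) % 23) • z = c ^ 0 • z := by
        rw [← pow_eq_pow_mod _ hc23, ← h1, pow_zero, one_smul]
      have := pow_smul_injOn (by norm_num) hc23 hz (Nat.mod_lt _ (by norm_num)) (by norm_num) h3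
      have hr0 : r = 0 := by omega
      simp [hr0]
    have := Finset.card_le_card hsub
    rw [(H.card_fixF_eq (by omega) d ha ht2 ht1).1, hf, Finset.card_singleton] at this
    omega
  have hindex : N.index % 23 = 1 := by
    have h1 := card_sylow_modEq_one 23 G
    rwa [Nat.ModEq, S.card_eq_index_normalizer] at h1
  have hprod : N.index * e = 9240 * Nat.card K := by
    have h := Subgroup.card_mul_index N
    rw [hNcard, hG, mul_assoc, mul_comm e N.index] at h
    exact Nat.eq_of_mul_eq_mul_left (by norm_num) h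
  have hmod : (9240 * Nat.card K) % 23 = e % 23 := by
    rw [← hprod, Nat.mul_mod, hindex, one_mul, Nat.mod_mod]
  have h945 : Nat.card K = 945 := by
    have he' : e = 1 ∨ e = 11 := by
      have : e ∈ Nat.divisors 22 := Nat.mem_divisors.2 ⟨he22, by norm_num⟩
      rw [show Nat.divisors 22 = {1, 2, 11, 22} by decide] at this
      simp only [Finset.mem_insert, Finset.mem_singleton] at this
      obtain ⟨m, hm⟩ := heodd
      omega
    have key : ∀ m ∈ Nat.divisors 2835, 9 ∣ m → ((9240 * m) % 23 = 1 ∨ (9240 * m) % 23 = 11) →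
        m = 945 := by decide +kernel
    refine key _ (Nat.mem_divisors.2 ⟨h2835, by norm_num⟩) h9dvd ?_
    rcases he' with h | h <;> rw [h] at hmod <;> omega
  -- a Sylow 7-subgroup of the stabiliser
  have : Fact (Nat.Prime 7) := ⟨by norm_num⟩
  obtain ⟨⟨s, hsK⟩, hso⟩ := exists_prime_orderOf_dvd_card' (G := K) 7 (by rw [h945]; norm_num)
  have hso' : orderOf s = 7 := by rwa [Subgroup.orderOf_mk] at hso
  have hs7 : s ^ 7 = 1 := hso' ▸ pow_orderOf_eq_one s
  obtain ⟨z₁, hz₁, hmv⟩ : ∃ z₁ ∈ O, s • z₁ ≠ z₁ := by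
    by_contra h
    simp only [not_exists, not_and, not_not] at h
    have : s = 1 := eq_of_smul_eq_smul fun w : Ω => by rw [one_smul]; exact hfaith s hsK h w
    rw [this, orderOf_one] at hso'; omega
  have horbO : ∀ w ∈ O, pOrbit s 7 w ⊆ O := by
    intro w hw v hv
    obtain ⟨r, -, rfl⟩ := Finset.mem_image.1 hv
    exact hinv _ (K.pow_mem hsK r) w hw
  have hfixout : ∀ w ∈ O, w ∉ pOrbit s 7 z₁ → s • w = w := by
    intro w hw hw'
    by_contra h
    have := Finset.card_le_card (Finset.union_subset (horbO z₁ hz₁) (horbO w hw))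
    rw [Finset.card_union_of_disjoint (pOrbit_disjoint hs7 hw' (by norm_num)),
      card_pOrbit (by norm_num) hs7 hmv, card_pOrbit (by norm_num) hs7 h, hO] at this
    omega
  set P := Subgroup.zpowers (⟨s, hsK⟩ : K) with hP
  have hPc : Nat.card P = 7 := by rw [hP, Nat.card_zpowers, hso]
  set N7 := Subgroup.normalizer (P : Set K) with hN7
  let S7 : Sylow 7 K := Sylow.ofCard P (by
    rw [hPc, h945]
    rw [show (945 : ℕ) = 7 ^ 1 * 135 by norm_num, Nat.factorization_mul (by norm_num) (by norm_num)]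
    simp [Nat.factorization_eq_zero_of_not_dvd (by norm_num : ¬ 7 ∣ 135),
      Nat.Prime.factorization_self (by norm_num : Nat.Prime 7)])
  have hidx : N7.index % 7 = 1 := by
    have h1 := card_sylow_modEq_one 7 K
    rwa [Nat.ModEq, S7.card_eq_index_normalizer] at h1
  have hidx' : N7.index ∣ 135 := by
    have h := Subgroup.index_dvd_of_le (Subgroup.le_normalizer : P ≤ N7)
    have h' := Subgroup.card_mul_index P
    rw [hPc, h945] at h'
    have : P.index = 135 := by omega
    rwa [this] at h
  have hcases : N7.index = 1 ∨ N7.index = 15 := by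
    have : N7.index ∈ Nat.divisors 135 := Nat.mem_divisors.2 ⟨hidx', by norm_num⟩
    have key : ∀ m ∈ Nat.divisors 135, m % 7 = 1 → m = 1 ∨ m = 15 := by decide
    exact key _ this hidx
  rcases hcases with h1 | h15
  · -- normal: fixes a point of `O`, hence all
    obtain ⟨w₀, hw₀, hw₀'⟩ := Finset.exists_mem_notMem_of_card_lt_card
      (s := pOrbit s 7 z₁) (t := O) (by rw [card_pOrbit (by norm_num) hs7 hmv, hO]; norm_num)
    obtain ⟨t, ht, htw⟩ := htr w₀ hw₀ z₁ hz₁
    have htop : N7 = ⊤ := Subgroup.index_eq_one.1 h1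
    have hmem : (⟨t, ht⟩ : K)⁻¹ * ⟨s, hsK⟩ * ⟨t, ht⟩ ∈ P := by
      have hN : (⟨t, ht⟩ : K)⁻¹ ∈ N7 := htop ▸ Subgroup.mem_top _
      simpa using (Subgroup.mem_normalizer_iff.1 hN ⟨s, hsK⟩).1 (Subgroup.mem_zpowers _)
    obtain ⟨r, hr⟩ := Subgroup.mem_zpowers_iff.1 hmem
    have hr' : s ^ r = t⁻¹ * s * t := congrArg Subtype.val hr
    have hfixw : (s ^ r) • w₀ = w₀ := by
      have hmem' : s ∈ MulAction.stabilizer G w₀ := hfixout w₀ hw₀ hw₀'
      exact zpow_mem hmem' r
    rw [hr', mul_smul, mul_smul, htw, inv_smul_eq_iff, htw] at hfixw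
    exact hmv hfixw
  · -- a centralising element of order three
    have hN63 : Nat.card N7 = 63 := by
      have h := Subgroup.card_mul_index N7
      rw [h15, h945] at h
      omega
    let χ : N7 →* MulAut P := Subgroup.normalizerMonoidHom P
    have hA : Nat.card (MulAut P) = 6 := by
      rw [IsCyclic.card_mulAut, hPc, Nat.totient_prime (by norm_num)]
    have h3 : 3 ∣ Nat.card χ.ker := by
      have h1 := Subgroup.card_mul_index χ.ker
      rw [Subgroup.index_ker, hN63] at h1
      have h2 : Nat.card χ.range ∣ 6 := hA ▸ Subgroup.card_subgroup_dvd_card _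
      have : Nat.card χ.range ∈ Nat.divisors 6 := Nat.mem_divisors.2 ⟨h2, by norm_num⟩
      rw [show Nat.divisors 6 = {1, 2, 3, 6} by decide] at this
      simp only [Finset.mem_insert, Finset.mem_singleton] at this
      rcases this with h | h | h | h <;> rw [h] at h1 <;> omega
    have : Fact (Nat.Prime 3) := ⟨by norm_num⟩
    obtain ⟨⟨⟨⟨u, huK⟩, huN⟩, huker⟩, huo⟩ := exists_prime_orderOf_dvd_card' (G := χ.ker) 3 h3
    rw [Subgroup.orderOf_mk, Subgroup.orderOf_mk, Subgroup.orderOf_mk] at huo
    have hu3 : u ^ 3 = 1 := huo ▸ pow_orderOf_eq_one u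
    have hus : Commute u s := by
      have := congrArg (fun x : P => ((x : K) : G))
        (DFunLike.congr_fun (MonoidHom.mem_ker.1 huker) ⟨⟨s, hsK⟩, Subgroup.mem_zpowers _⟩)
      change u * s * u⁻¹ = s at this
      show u * s = s * u
      calc u * s = u * s * u⁻¹ * u := (inv_mul_cancel_right _ _).symm
        _ = s * u := by rw [this]
    have hu1 : u • z₁ = z₁ := by
      have hin : u • z₁ ∈ pOrbit s 7 z₁ := by
        by_contra h
        have := hfixout _ (hinv u huK z₁ hz₁) h
        rw [smul_smul, ← hus.eq, mul_smul] at this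
        exact hmv (MulAction.injective u this)
      obtain ⟨r, hr, hru⟩ := Finset.mem_image.1 hin
      have h2 : ∀ m : ℕ, u ^ m • z₁ = s ^ (r * m) • z₁ := by
        intro m
        induction m with
        | zero => simp
        | succ m ih =>
          rw [pow_succ', mul_smul, ih, smul_smul, (hus.pow_right _).eq, mul_smul, ← hru,
            smul_smul, ← pow_add]
          ring_nf
      have h3 : s ^ ((r * 3) % 7) • z₁ = s ^ 0 • z₁ := by
        rw [← pow_eq_pow_mod _ hs7, ← h2, hu3, one_smul, pow_zero, one_smul]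
      have := pow_smul_injOn (by norm_num) hs7 hmv (Nat.mod_lt _ (by norm_num)) (by norm_num) h3
      have := Finset.mem_range.1 hr
      have hr0 : r = 0 := by omega
      rw [← hru, hr0, pow_zero, one_smul]
    have hfixall : ∀ w ∈ O, u • w = w := by
      intro w hw
      by_cases hw' : w ∈ pOrbit s 7 z₁
      · obtain ⟨r, -, rfl⟩ := Finset.mem_image.1 hw'
        rw [smul_smul, (hus.pow_right r).eq, mul_smul, hu1]
      · by_contra h
        have hsub : pOrbit u 3 w ⊆ O \ pOrbit s 7 z₁ := by
          intro v hv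
          obtain ⟨r, -, rfl⟩ := Finset.mem_image.1 hv
          refine Finset.mem_sdiff.2 ⟨hinv _ (K.pow_mem huK r) w hw, fun hv => ?_⟩
          have hwfix := hfixout w hw hw'
          have := mem_pOrbit_moved hmv hv
          rw [smul_smul, ((hus.symm).pow_right r).eq, mul_smul, hwfix] at this
          exact this rfl
        have := Finset.card_le_card hsub
        rw [card_pOrbit (by norm_num) hu3 h, Finset.card_sdiff_of_subset (horbO z₁ hz₁),
          card_pOrbit (by norm_num) hs7 hmv, hO] at this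
        omega
    have : u = 1 := eq_of_smul_eq_smul fun w : Ω => by
      rw [one_smul]; exact hfaith u huK hfixall w
    rw [this, orderOf_one] at huo
    omega

/-- **Hall's theorem**, degree at least eight: the group is sharply four-fold transitive of
degree eleven. -/
theorem Hyp.main (H : Hyp G Ω) (hn : 8 ≤ Fintype.card Ω) {i j k l : Ω} (d : D4 i j k l) :
    Fintype.card Ω = 11 ∧ Nat.card G = 7920 := by
  classical
  obtain ⟨a, b, ha, hb, hab⟩ := H.exists_cfg d
  have hge := (H.card_fixF_eq (by omega) d ha ha.sq (ne_one_of_move ha.sk d.kl)).2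
  have hle := H.card_fixF_le (Ω := Ω) ha.sq (ne_one_of_move ha.sk d.kl)
  rcases Nat.lt_or_ge (fixF (Ω := Ω) a).card 3 with hf | hf
  · have := H.even (by omega) d ha hb hab (by omega)
    omega
  have hf3 : (fixF (Ω := Ω) a).card = 3 := by omega
  rcases H.odd_case (by omega) d ha hb hab hf3 with
    ⟨o, hoi, hoj, hok, hol, hao, htr⟩ | ⟨h11, R, hR, hfix⟩ | ⟨h23, O, hO, h1, h2, h3⟩
  · exfalso
    -- the point stabiliser is four-fold transitive on the remaining points
    set G1 := MulAction.stabilizer G i with hG1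
    let Ω1 := SubMulAction.ofStabilizer G i
    have memΩ : ∀ p : Ω, p ∈ Ω1 ↔ p ≠ i := fun p => SubMulAction.mem_ofStabilizer_iff G i
    have hcard : Fintype.card Ω1 = Fintype.card Ω - 1 := by
      rw [Fintype.card_congr (Equiv.subtypeEquivRight memΩ), Fintype.card_subtype_compl,
        Fintype.card_subtype_eq]
    have toK : ∀ {p q r s : Ω1}, D4 p q r s → D4 i (p : Ω) q r := fun {p q r s} e =>
      ⟨Ne.symm ((memΩ _).1 p.2), Ne.symm ((memΩ _).1 q.2), Ne.symm ((memΩ _).1 r.2),
        fun h => e.ij (Subtype.ext h), fun h => e.ik (Subtype.ext h), fun h => e.jk (Subtype.ext h)⟩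
    have H1 : Hyp G1 Ω1 := by
      refine ⟨?_, ?_⟩
      · have hcan : ∀ {p q r s : Ω1}, D4 p q r s →
            ∃ g : G1, (g : G) • (p : Ω) = j ∧ (g : G) • (q : Ω) = k ∧ (g : G) • (r : Ω) = l ∧
              (g : G) • (s : Ω) = o := by
          intro p q r s e
          obtain ⟨g, g0, g1, g2, g3⟩ := H.trans (toK e) d
          obtain ⟨t, ht, hto⟩ := htr (g • (s : Ω))
            (fun h => (memΩ _).1 s.2 (MulAction.injective g (h.trans g0.symm)))
            (fun h => e.il (Subtype.ext (MulAction.injective g (g1.trans h.symm))))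
            (fun h => e.jl (Subtype.ext (MulAction.injective g (g2.trans h.symm))))
            (fun h => e.kl (Subtype.ext (MulAction.injective g (g3.trans h.symm))))
          obtain ⟨t1, t2, t3, t4⟩ := mem_fix4.1 ((fix4 G i j k l).inv_mem ht)
          refine ⟨⟨t⁻¹ * g, ?_⟩, ?_, ?_, ?_, ?_⟩
          · rw [hG1, MulAction.mem_stabilizer_iff, mul_smul, g0, t1]
          all_goals simp only [mul_smul]
          · rw [g1, t2]
          · rw [g2, t3]
          · rw [g3, t4]
          · rw [← hto, inv_smul_smul]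
        intro p q r s e p' q' r' s' e'
        obtain ⟨g, g1, g2, g3, g4⟩ := hcan e
        obtain ⟨g', g1', g2', g3', g4'⟩ := hcan e'
        refine ⟨g'⁻¹ * g, ?_, ?_, ?_, ?_⟩ <;> apply Subtype.ext <;>
          simp only [SubMulAction.val_smul, Subgroup.smul_def, Subgroup.coe_mul,
            Subgroup.coe_inv, mul_smul, inv_smul_eq_iff]
        · rw [g1, g1']
        · rw [g2, g2']
        · rw [g3, g3']
        · rw [g4, g4']
      · intro p q r s e
        refine (H.odd (toK e)).of_dvd_nat ?_
        have hle : (fix4 G1 p q r s).map G1.subtype ≤ fix4 G i (p : Ω) q r := by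
          rintro _ ⟨⟨g, hg⟩, hgm, rfl⟩
          obtain ⟨a1, a2, a3, -⟩ := mem_fix4.1 hgm
          exact mem_fix4.2 ⟨hg, congrArg Subtype.val a1, congrArg Subtype.val a2,
            congrArg Subtype.val a3⟩
        have h := Subgroup.card_dvd_of_le hle
        rwa [Subgroup.card_map_of_injective G1.subtype_injective] at h
    have : FaithfulSMul G1 Ω1 := ⟨fun {g g'} h => by
      refine Subtype.ext (eq_of_smul_eq_smul fun p : Ω => ?_)
      by_cases hp : p = i
      · subst hp
        exact g.2.trans g'.2.symm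
      · exact congrArg Subtype.val (h ⟨p, (memΩ p).2 hp⟩)⟩
    let a1 : G1 := ⟨a, ha.fi⟩
    let j1 : Ω1 := ⟨j, (memΩ j).2 d.ij.symm⟩
    let o1 : Ω1 := ⟨o, (memΩ o).2 hoi⟩
    let k1 : Ω1 := ⟨k, (memΩ k).2 d.ik.symm⟩
    let l1 : Ω1 := ⟨l, (memΩ l).2 d.il.symm⟩
    have d1 : D4 j1 o1 k1 l1 := ⟨fun h => hoj (congrArg Subtype.val h).symm,
      fun h => d.jk (congrArg Subtype.val h), fun h => d.jl (congrArg Subtype.val h),
      fun h => hok (congrArg Subtype.val h), fun h => hol (congrArg Subtype.val h),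
      fun h => d.kl (congrArg Subtype.val h)⟩
    have ha1 : Single a1 j1 o1 k1 l1 :=
      ⟨Subtype.ext ha.sq, Subtype.ext ha.fj, Subtype.ext hao, Subtype.ext ha.sk⟩
    obtain ⟨a2, b2, ha2, hb2, hab2⟩ := H1.exists_cfg d1
    have hf1 : (fixF (Ω := Ω1) a1).card = 2 := by
      have himg : (fixF (Ω := Ω1) a1).image (fun p : Ω1 => (p : Ω)) = (fixF (Ω := Ω) a).erase i := by
        ext p
        simp only [Finset.mem_image, Finset.mem_erase, mem_fixF]
        constructor
        · rintro ⟨q, hq, rfl⟩
          exact ⟨(memΩ _).1 q.2, congrArg Subtype.val hq⟩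
        · rintro ⟨hp, hap⟩
          exact ⟨⟨p, (memΩ p).2 hp⟩, Subtype.ext hap, rfl⟩
      rw [← Finset.card_image_of_injective _ (Subtype.val_injective), himg,
        Finset.card_erase_of_mem (mem_fixF.2 ha.fi), hf3]
    have hf2 : (fixF (Ω := Ω1) a2).card = 2 := by
      rw [(H1.card_fixF_eq (by omega) d1 ha1 ha2.sq (ne_one_of_move ha2.sk d1.kl)).1, hf1]
    have := H1.even (by omega) d1 ha2 hb2 hab2 hf2
    omega
  · refine ⟨h11, ?_⟩
    rw [H.card_group d, h11, H.eleven h11 d hR hfix]
    norm_num [Nat.descFactorial]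
  · exact absurd (H.not_twentythree h23 d ha hf3 hO h1 h2 h3) not_false

end Cfsg.Agent.FourTrans
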